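import Cfsg.Agent.Lib.LocalEven.TICount.Basic
import Cfsg.Agent.Lib.Frobenius.Action

/-!
TI-subgroups with many involutions: counting.
-/

set_option autoImplicit false

namespace CfsgLib.LocalEven.TICount

variable {G : Type*} [Group G] [Finite G]

namespace Hyp

variable {M : Subgroup G} {z : G}

local notation "N" => Subgroup.normalizer (M : Set G)
local notation "K" => Kz M z

variable (H : Hyp M z)
include H

theorem card_outer_add : Nat.card K + Nat.card (Outer M) = M.index := by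
  rw [← Nat.card_sum, Subgroup.index]
  refine Nat.card_congr (Equiv.ofBijective (fun p : K ⊕ Outer M => match p with
    | Sum.inl k => (QuotientGroup.mk (k : G) : G ⧸ M)
    | Sum.inr s => QuotientGroup.mk (s : G)) ⟨?_, ?_⟩)
  · rintro (k | s) (k' | s') h <;> simp only [QuotientGroup.eq] at h
    · exact congrArg Sum.inl (Subtype.ext (inv_mul_eq_one.mp
        (H.eq_one_of_mem_K h (mul_mem (inv_mem k.2) k'.2))))
    · exact absurd (by simpa using mul_mem (mem_K.1 k.2).1 (M_le h)) s'.2.2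
    · exact absurd (by simpa using mul_mem (mem_K.1 k'.2).1 (inv_mem (M_le h))) s.2.2
    · exact congrArg Sum.inr (Subtype.ext (coset_inj s.2.1 s'.2.1 s.2.2 H.ti h))
  · intro q
    induction q using QuotientGroup.induction_on with | H g => ?_
    by_cases hg : g ∈ N
    · obtain ⟨x, hx, k, hk, rfl⟩ := H.decomp hg
      refine ⟨Sum.inl ⟨k, hk⟩, QuotientGroup.eq.2 ?_⟩
      have := conj_mem' (mem_K.1 hk).1 hx
      simpa [mul_assoc] using this
    · obtain ⟨u, hu, huN, hug⟩ := H.exists_inv hg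
      refine ⟨Sum.inr ⟨u, hu, huN⟩, QuotientGroup.eq.2 ?_⟩
      simpa using inv_mem hug

theorem card_inv : Nat.card {g : G // orderOf g = 2} = Nat.card M + Nat.card (Outer M) := by
  classical
  rw [← Nat.card_sum]
  have hxz : ∀ x : M, orderOf ((x : G) * z) = 2 := by
    intro x
    refine two_of ?_ fun e => H.z_ne (H.eq_of_mul_self ?_ H.zz)
    · rw [show (x : G) * z * ((x : G) * z) = (x : G) * (z * x * z) by group, H.z_inverts x.2,
        mul_inv_cancel]
    · have h9 : z = (x : G)⁻¹ := eq_inv_of_mul_eq_one_right e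
      rw [h9]; exact inv_mem x.2
  refine (Nat.card_congr (Equiv.ofBijective (fun p : M ⊕ Outer M => match p with
    | Sum.inl x => (⟨(x : G) * z, hxz x⟩ : {g : G // orderOf g = 2})
    | Sum.inr s => ⟨s, s.2.1⟩) ⟨?_, ?_⟩)).symm
  · rintro (x | s) (x' | s') h <;> simp only [Subtype.mk.injEq] at h
    · exact congrArg Sum.inl (Subtype.ext (mul_right_cancel h))
    · exact absurd (by rw [← h]; exact mul_mem (M_le x.2) H.znorm) s'.2.2
    · exact absurd (by rw [h]; exact mul_mem (M_le x'.2) H.znorm) s.2.2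
    · exact congrArg Sum.inr (Subtype.ext h)
  · rintro ⟨v, hv⟩
    by_cases hvN : v ∈ N
    · obtain ⟨x, hx, rfl⟩ := H.inv_mem_coset hv hvN
      exact ⟨Sum.inl ⟨x, hx⟩, rfl⟩
    · exact ⟨Sum.inr ⟨v, hv, hvN⟩, rfl⟩

theorem card_outer : Nat.card (Outer M) = Nat.card M * Nat.card (OuterCent M z) := by
  rw [← Nat.card_prod]
  have hmem : ∀ p : M × OuterCent M z, orderOf ((p.1 : G) * p.2 * (p.1 : G)⁻¹) = 2 ∧
      (p.1 : G) * p.2 * (p.1 : G)⁻¹ ∉ N := by
    intro p
    refine ⟨?_, fun h => p.2.2.2 ?_⟩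
    · rw [show (p.1 : G) * p.2 * (p.1 : G)⁻¹ = MulAut.conj (p.1 : G) (p.2 : G) by simp,
        MulEquiv.orderOf_eq]
      exact H.cent_out p.2.2.1 p.2.2.2
    · have := mul_mem (mul_mem (inv_mem (M_le p.1.2)) h) (M_le p.1.2)
      simpa [mul_assoc] using this
  refine (Nat.card_congr (Equiv.ofBijective (fun p : M × OuterCent M z =>
    (⟨_, (hmem p).1, (hmem p).2⟩ : Outer M)) ⟨?_, ?_⟩)).symm
  · rintro ⟨⟨x, hx⟩, ⟨c, hc, hcN⟩⟩ ⟨⟨x', hx'⟩, ⟨c', hc', hcN'⟩⟩ e
    have e' : x * c * x⁻¹ = x' * c' * x'⁻¹ := congrArg (fun w : Outer M => (w : G)) e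
    set w := x⁻¹ * x' with hw
    have hwM : w ∈ M := mul_mem (inv_mem hx) hx'
    have hcw : c = w * c' * w⁻¹ := by
      calc c = x⁻¹ * (x * c * x⁻¹) * x := by group
        _ = x⁻¹ * (x' * c' * x'⁻¹) * x := by rw [e']
        _ = w * c' * w⁻¹ := by rw [hw]; group
    have hc2 := H.cent_out hc hcN
    have h1 : Commute c (w * z * w⁻¹) := by
      rw [hcw]
      show w * c' * w⁻¹ * (w * z * w⁻¹) = w * z * w⁻¹ * (w * c' * w⁻¹)
      calc w * c' * w⁻¹ * (w * z * w⁻¹) = w * (c' * z) * w⁻¹ := by group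
        _ = w * (z * c') * w⁻¹ := by rw [hc'.eq]
        _ = w * z * w⁻¹ * (w * c' * w⁻¹) := by group
    have h2 : Commute c (w * w) := by
      have e2 : w * w = w * z * w⁻¹ * z := by
        rw [mul_assoc w z, H.z_mul (inv_mem hwM), inv_inv,
          show w * (w * z) * z = w * w * (z * z) by group, H.zz, mul_one]
      rw [e2]
      exact h1.mul_right hc
    have h3 := H.semireg hcN (mul_mem hwM hwM) (by
      rw [mul_assoc, ← h2.eq, inv_mul_cancel_left]
      exact M_le (mul_mem hwM hwM))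
    have hw1 := H.eq_of_mul_self hwM h3
    obtain rfl : x = x' := inv_mul_eq_one.mp hw1
    obtain rfl : c = c' := by rw [hcw, hw1]; group
    rfl
  · rintro ⟨v, hv, hvN⟩
    obtain ⟨w, hw, -, h2, h3⟩ := H.exists_conj_comm hv hvN
    refine ⟨(⟨w, hw⟩, ⟨_, h3, h2⟩), Subtype.ext ?_⟩
    show w * (w⁻¹ * v * w) * w⁻¹ = v
    group

theorem card_cent :
    Nat.card (Subgroup.centralizer ({z} : Set G)) = Nat.card K + Nat.card (OuterCent M z) := by
  classical
  rw [← Nat.card_sum]
  refine Nat.card_congr (Equiv.ofBijective (fun c : Subgroup.centralizer ({z} : Set G) =>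
    if h : (c : G) ∈ N then Sum.inl (⟨c, h, c.2⟩ : K)
    else Sum.inr (⟨c, Subgroup.mem_centralizer_singleton_iff.1 c.2, h⟩ : OuterCent M z)) ⟨?_, ?_⟩)
  · intro a b e
    dsimp only at e
    split_ifs at e with h h'
    · exact Subtype.ext (congrArg (fun w : K => (w : G)) (Sum.inl_injective e) :)
    · exact Subtype.ext (congrArg (fun w : OuterCent M z => (w : G)) (Sum.inr_injective e) :)
  · rintro (⟨k, hk⟩ | ⟨c, hc, hcN⟩)
    · exact ⟨⟨k, hk.2⟩, dif_pos hk.1⟩
    · exact ⟨⟨c, Subgroup.mem_centralizer_singleton_iff.2 hc⟩, dif_neg hcN⟩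

theorem outerCent_pos : 0 < Nat.card (OuterCent M z) := by
  obtain ⟨u, -, huN, huz⟩ := H.exists_swap
  haveI : Nonempty (OuterCent M z) := ⟨⟨u, huz, huN⟩⟩
  exact Nat.card_pos

theorem card_G :
    Nat.card G = Nat.card M * (Nat.card K + Nat.card M * Nat.card (OuterCent M z)) := by
  rw [← H.card_outer, H.card_outer_add, M.card_mul_index]

omit H in
/-- The conjugates of `z`, as cosets of its centralizer. -/
theorem conjMap_injective (hz : orderOf z = 2) :
    ∃ f : G ⧸ Subgroup.centralizer ({z} : Set G) → {g : G // orderOf g = 2},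
      Function.Injective f ∧ ∀ g : G, (f (QuotientGroup.mk g) : G) = g * z * g⁻¹ := by
  refine ⟨Quotient.lift (fun g : G => (⟨g * z * g⁻¹, by
    rw [show g * z * g⁻¹ = MulAut.conj g z by simp, MulEquiv.orderOf_eq]; exact hz⟩ :
      {g : G // orderOf g = 2})) ?_, ?_, fun g => rfl⟩
  · intro a b h
    replace h := Subgroup.mem_centralizer_singleton_iff.1 (QuotientGroup.leftRel_apply.1 h)
    refine Subtype.ext ?_
    show a * z * a⁻¹ = b * z * b⁻¹
    calc a * z * a⁻¹ = a * (z * (a⁻¹ * b)) * b⁻¹ := by group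
      _ = a * (a⁻¹ * b * z) * b⁻¹ := by rw [← h]
      _ = b * z * b⁻¹ := by group
  · intro a b
    refine Quotient.inductionOn₂ a b fun a b e => Quotient.sound ?_
    have e' : a * z * a⁻¹ = b * z * b⁻¹ := congrArg Subtype.val e
    show (QuotientGroup.leftRel _).r a b
    rw [QuotientGroup.leftRel_apply, Subgroup.mem_centralizer_singleton_iff]
    calc a⁻¹ * b * z = a⁻¹ * (b * z * b⁻¹) * b := by group
      _ = a⁻¹ * (a * z * a⁻¹) * b := by rw [e']
      _ = z * (a⁻¹ * b) := by group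

/-- The class of `z` fits into the involutions. -/
theorem card_M_le : Nat.card M ≤ 1 + Nat.card K + Nat.card (OuterCent M z) := by
  obtain ⟨f, hf, -⟩ := conjMap_injective (G := G) H.two
  have h1 := Nat.card_le_card_of_injective f hf
  rw [H.card_inv, H.card_outer] at h1
  change (Subgroup.centralizer ({z} : Set G)).index ≤ _ at h1
  have h2 := (Subgroup.centralizer ({z} : Set G)).card_mul_index
  rw [H.card_cent, H.card_G] at h2
  have hc := H.outerCent_pos
  have hm : 0 < Nat.card M := Nat.card_pos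
  set m := Nat.card M
  set k := Nat.card K
  set c := Nat.card (OuterCent M z)
  set i := (Subgroup.centralizer ({z} : Set G)).index
  have h3 : m * (k + m * c) ≤ m * ((k + c) * (1 + c)) := by
    calc m * (k + m * c) = (k + c) * i := h2.symm
      _ ≤ (k + c) * (m + m * c) := Nat.mul_le_mul_left _ h1
      _ = _ := by ring
  have h4 := Nat.le_of_mul_le_mul_left h3 hm
  have h5 : m * c ≤ (1 + k + c) * c := by
    rw [show (k + c) * (1 + c) = k + (1 + k + c) * c by ring] at h4
    omega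
  exact Nat.le_of_mul_le_mul_right h5 hc

/-- If the bound is attained, all involutions are conjugate to `z`. -/
theorem all_conj (heq : Nat.card M = 1 + Nat.card K + Nat.card (OuterCent M z)) {v : G}
    (hv : orderOf v = 2) : ∃ g, v = g * z * g⁻¹ := by
  obtain ⟨f, hf, hfg⟩ := conjMap_injective (G := G) H.two
  have h2 := (Subgroup.centralizer ({z} : Set G)).card_mul_index
  rw [H.card_cent, H.card_G] at h2
  have hcard : Nat.card (G ⧸ Subgroup.centralizer ({z} : Set G)) =
      Nat.card {g : G // orderOf g = 2} := by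
    rw [H.card_inv, H.card_outer]
    change (Subgroup.centralizer ({z} : Set G)).index = _
    refine Nat.eq_of_mul_eq_mul_left (n := Nat.card K + Nat.card (OuterCent M z)) ?_ ?_
    · have := H.outerCent_pos; omega
    · rw [h2, heq]; ring
  obtain ⟨q, hq⟩ := ((Nat.bijective_iff_injective_and_card f).2 ⟨hf, hcard⟩).2 ⟨v, hv⟩
  induction q using QuotientGroup.induction_on with | H g => ?_
  exact ⟨g, by rw [← hfg, hq]⟩

theorem even_card_K : Even (Nat.card K) := by
  rw [even_iff_two_dvd]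
  calc 2 = orderOf (⟨z, H.z_mem_K⟩ : K) := by rw [Subgroup.orderOf_mk]; exact H.two.symm
    _ ∣ _ := orderOf_dvd_natCard _

theorem card_K_two_iff : Nat.card K = 2 ↔ ∀ d ∈ K, d = 1 ∨ d = z := by
  constructor
  · intro h d hd
    obtain ⟨y, -, hy⟩ := (Nat.card_eq_two_iff' (1 : K)).1 h
    by_cases hd1 : d = 1
    · exact Or.inl hd1
    · have a1 := hy ⟨d, hd⟩ fun e => hd1 (congrArg Subtype.val e)
      have a2 := hy ⟨z, H.z_mem_K⟩ fun e => H.z_ne (congrArg Subtype.val e)
      exact Or.inr (congrArg Subtype.val (a1.trans a2.symm))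
  · intro h
    rw [Nat.card_eq_two_iff' (1 : K)]
    exact ⟨⟨z, H.z_mem_K⟩, fun e => H.z_ne (congrArg Subtype.val e), fun d hd =>
      Subtype.ext ((h d d.2).resolve_left fun e => hd (Subtype.ext e))⟩

theorem exists_sq_ne_one (hk : Nat.card K ≠ 2) : ∃ d ∈ K, d * d ≠ 1 := by
  by_contra h
  simp only [not_exists, not_and, not_not] at h
  refine hk (H.card_K_two_iff.2 fun d hd => ?_)
  by_cases hd1 : d = 1
  · exact Or.inl hd1
  · exact Or.inr (H.K_unique (h d hd) hd1 hd)

/-- Above order two, one orbit outside the base point. -/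
theorem one_orbit (hk : Nat.card K ≠ 2) {u g : G} (hu : orderOf u = 2) (huN : u ∉ N)
    (huz : Commute u z) (hg : g ∉ N) : ∃ x ∈ M, (x * u)⁻¹ * g ∈ N := by
  obtain ⟨d, hd, hdd⟩ := H.exists_sq_ne_one hk
  obtain ⟨v, hv, hvN, hvg⟩ := H.exists_inv hg
  obtain ⟨w, hw, h1, h2, h3⟩ := H.exists_conj_comm hv hvN
  have h4 := H.fix_two hd hdd hu huN h1 (H.K_inverted hu huN huz hd) (H.K_inverted h1 h2 h3 hd)
  refine ⟨w, hw, ?_⟩
  have e : (w * u)⁻¹ * g = u * (w⁻¹ * v * w) * w⁻¹ * (g⁻¹ * v)⁻¹ := by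
    rw [show u * (w⁻¹ * v * w) * w⁻¹ * (g⁻¹ * v)⁻¹ = u * w⁻¹ * g by group, mul_inv_rev,
      inv_of hu]
  rw [e]
  exact mul_mem (mul_mem h4 (inv_mem (M_le hw))) (inv_mem (M_le hvg))

theorem outerCent_eq (hk : Nat.card K ≠ 2) : Nat.card (OuterCent M z) = Nat.card K := by
  obtain ⟨d, hd, hdd⟩ := H.exists_sq_ne_one hk
  obtain ⟨u, hu, huN, huz⟩ := H.exists_swap
  refine (Nat.card_congr (Equiv.ofBijective (fun k : K =>
    (⟨u * k, huz.mul_left (mem_K.1 k.2).2, fun h => huN (by
      simpa [mul_assoc] using mul_mem h (inv_mem (mem_K.1 k.2).1))⟩ : OuterCent M z)) ⟨?_, ?_⟩)).symm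
  · intro a b e
    exact Subtype.ext (mul_left_cancel (congrArg (fun w : OuterCent M z => (w : G)) e :))
  · rintro ⟨c, hc, hcN⟩
    have hc2 := H.cent_out hc hcN
    have h4 := H.fix_two hd hdd hu huN hc2 (H.K_inverted hu huN huz hd) (H.K_inverted hc2 hcN hc hd)
    refine ⟨⟨u * c, mem_K.2 ⟨h4, huz.mul_left hc⟩⟩, Subtype.ext ?_⟩
    show u * (u * c) = c
    rw [← mul_assoc, mul_self_of hu, one_mul]

/-- `|K|` divides `|A| - 1` for `A ≤ M` normalized by `K`. -/
theorem card_K_dvd_of {A : Subgroup G} (hA : A ≤ M)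
    (hinv : ∀ k ∈ K, ∀ x ∈ A, k * x * k⁻¹ ∈ A) : Nat.card K ∣ Nat.card A - 1 := by
  have hle : K ≤ Subgroup.normalizer (A : Set G) := fun k hk =>
    Subgroup.mem_normalizer_iff.2 fun x => ⟨hinv k hk x, fun hx => by
      simpa [mul_assoc] using hinv _ (inv_mem hk) _ hx⟩
  letI : MulDistribMulAction K A :=
    MulDistribMulAction.compHom A (A.normalizerMonoidHom.comp (Subgroup.inclusion hle))
  have h : CfsgLib.Frobenius.IsFPF K A := by
    intro d hd x hx
    have e : (d : G) * (x : G) * (d : G)⁻¹ = x := congrArg Subtype.val hx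
    exact Subtype.ext (H.fpf d.2 (fun e1 => hd (Subtype.ext e1)) (hA x.2)
      (mul_inv_eq_iff_eq_mul.mp e))
  exact h.card_dvd_sub_one

/-- `|K|` divides `|M| - 1`. -/
theorem card_K_dvd : Nat.card K ∣ Nat.card M - 1 :=
  H.card_K_dvd_of le_rfl fun _ hk _ hx => conj_mem (mem_K.1 hk).1 hx

theorem one_lt_card_M : 1 < Nat.card M :=
  (Subgroup.one_lt_card_iff_ne_bot M).2 H.hne

/-- The case of a complement of order two: the centralizer of `z` is elementary abelian, and there
are two possible orders. -/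
theorem two_case (hk : Nat.card K = 2) :
    (∀ c : G, Commute c z → c * c = 1) ∧
      ∃ p : ℕ, 1 ≤ p ∧ Nat.card (Subgroup.centralizer ({z} : Set G)) = 2 * 2 ^ p ∧
        (Nat.card M = 2 ^ p + 1 ∨ Nat.card M = 2 * 2 ^ p + 1) := by
  have hsq : ∀ c : G, Commute c z → c * c = 1 := by
    intro c hc
    by_cases hcN : c ∈ N
    · rcases H.card_K_two_iff.1 hk c (mem_K.2 ⟨hcN, hc⟩) with rfl | rfl
      · exact one_mul 1
      · exact H.zz
    · exact mul_self_of (H.cent_out hc hcN)
  refine ⟨hsq, ?_⟩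
  haveI : Fact (Nat.Prime 2) := ⟨Nat.prime_two⟩
  have hP : IsPGroup 2 (Subgroup.centralizer ({z} : Set G)) := fun c =>
    ⟨1, Subtype.ext (by
      rw [pow_one, SubgroupClass.coe_pow, pow_two]
      exact hsq _ (Subgroup.mem_centralizer_singleton_iff.1 c.2))⟩
  obtain ⟨j, hj⟩ := IsPGroup.iff_card.1 hP
  have hcc := H.card_cent
  rw [hk, hj] at hcc
  have hc := H.outerCent_pos
  have hj2 : 2 ≤ j := by
    by_contra h
    interval_cases j <;> omega
  obtain ⟨p, rfl⟩ : ∃ p, j = p + 1 := ⟨j - 1, by omega⟩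
  refine ⟨p, by omega, by rw [hj, pow_succ'], ?_⟩
  have hle := H.card_M_le
  rw [hk] at hle
  have hdvd : 2 ^ (p + 1) ∣ Nat.card G := hj ▸ Subgroup.card_subgroup_dvd_card _
  rw [H.card_G, hk] at hdvd
  have hcop : (2 ^ (p + 1)).Coprime (Nat.card M) :=
    Nat.Coprime.pow_left _ (Nat.coprime_two_left.2 H.odd_M)
  have h1 := hcop.dvd_of_dvd_mul_left hdvd
  have hm1 := H.one_lt_card_M
  have hodd := H.odd_M
  rw [pow_succ'] at hcc h1
  set m := Nat.card M
  set c := Nat.card (OuterCent M z)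
  set P := 2 ^ p with hP'
  have hP2 : 2 ∣ P := dvd_pow_self 2 (by omega)
  have h2 : P ∣ m - 1 := by
    obtain ⟨t, ht⟩ := h1
    have h3 : (2 : ℕ) * (m - 1) + 2 * P * t = 2 * P * m := by
      have e : m * c + 2 * m = 2 * P * m := by rw [hcc]; ring
      rw [← ht, ← e]; omega
    have h4 : 2 * P ∣ 2 * (m - 1) :=
      (Nat.dvd_add_left (Dvd.intro t rfl)).1 (h3 ▸ Dvd.intro m rfl)
    exact Nat.dvd_of_mul_dvd_mul_left two_pos h4
  obtain ⟨t, ht⟩ := h2
  have ht2 : t ≤ 2 := by
    by_contra h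
    have := Nat.mul_le_mul_left P (show 3 ≤ t by omega)
    have : 0 < P := pow_pos two_pos p
    omega
  interval_cases t <;> omega

end Hyp

end CfsgLib.LocalEven.TICount
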