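import Cfsg.Prelude.Def_Transfer
import Cfsg.Agent.Lib.LocalEven.TICount.Count
import Cfsg.Agent.Lib.Solvable.KegelWielandt
import Cfsg.Agent.Lib.Solvable.MinNormal
import Cfsg.Agent.Lib.FewOrders.Structure
import Cfsg.Agent.Lib.PSL2.Recognition

/-!
TI-subgroups with many involutions: `|M| = 2^p + 1` gives `E ⋊ D`.
-/

set_option autoImplicit false

namespace CfsgLib.LocalEven.TICount

variable {G : Type*} [Group G] [Finite G]

namespace Hyp

variable {M : Subgroup G} {z : G}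

local notation "N" => Subgroup.normalizer (M : Set G)
local notation "K" => Kz M z

variable (H : Hyp M z)
include H

/-- A cyclic `M` inverted by `z`, complemented by `⟨z⟩`, gives a dihedral normalizer. -/
theorem normalizer_dihedral (hk : Nat.card K = 2) (hcyc : IsCyclic M) :
    Nonempty (N ≃* DihedralGroup (Nat.card M)) := by
  let e : (M.subgroupOf N) ≃* M := Subgroup.subgroupOfEquivOfLe M_le
  haveI : IsCyclic (M.subgroupOf N) := isCyclic_of_injective e.toMonoidHom e.injective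
  rw [← Nat.card_congr e.toEquiv]
  refine CfsgLib.PSL2.nonempty_mulEquiv_dihedral (M.subgroupOf N) ?_ ?_
  · have h := (M.subgroupOf N).card_mul_index
    rw [Nat.card_congr e.toEquiv, H.card_N, hk] at h
    exact Nat.eq_of_mul_eq_mul_left Nat.card_pos h
  · rintro ⟨n, hn⟩ hnM
    obtain ⟨x, hx, k, hkK, rfl⟩ := H.decomp hn
    rcases H.card_K_two_iff.1 hk k hkK with h1 | h1
    · refine absurd (Subgroup.mem_subgroupOf.2 ?_) hnM
      show x * k ∈ M
      rw [h1, mul_one]; exact hx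
    · refine Subtype.ext ?_
      show x * k * (x * k) = 1
      rw [h1, show x * z * (x * z) = x * (z * x * z) by group, H.z_inverts hx, mul_inv_cancel]

omit H in
theorem coprime_card_G {P p : ℕ} (hP : P = 2 ^ p) (hmodd : Odd (Nat.card M)) :
    (2 * P * P).Coprime (Nat.card M) := by
  subst hP
  rw [show 2 * 2 ^ p * 2 ^ p = 2 ^ (p + 1 + p) by ring]
  exact Nat.Coprime.pow_left _ (Nat.coprime_two_left.2 hmodd)

omit H in
theorem arith {p j : ℕ} (hj1 : 1 ≤ j) (hj2 : j ≤ 2 * p) (hd : (2 ^ p + 1) ∣ 2 ^ j - 1) :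
    j = 2 * p := by
  by_contra hne
  have h2j : 2 ≤ 2 ^ j := le_trans (by norm_num) (Nat.pow_le_pow_right two_pos hj1)
  rcases Nat.lt_or_ge p j with h | h
  · obtain ⟨i, rfl⟩ : ∃ i, j = p + i := ⟨j - p, by omega⟩
    have h2i : 2 ^ i < 2 ^ p := Nat.pow_lt_pow_right (by norm_num) (by omega)
    have e : 2 ^ (p + i) - 1 + (2 ^ i + 1) = (2 ^ p + 1) * 2 ^ i := by
      rw [pow_add] at h2j ⊢
      rw [add_mul, one_mul]
      omega
    have h3 : (2 ^ p + 1) ∣ 2 ^ i + 1 := (Nat.dvd_add_right hd).1 (e ▸ Dvd.intro _ rfl)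
    have := Nat.le_of_dvd (Nat.succ_pos _) h3
    omega
  · have h3 := Nat.le_of_dvd (by omega) hd
    have h4 : 2 ^ j ≤ 2 ^ p := Nat.pow_le_pow_right two_pos h
    omega

/-- The affine case. -/
theorem affine_case (hk : Nat.card K = 2) {p : ℕ} (hp : 1 ≤ p)
    (hC : Nat.card (Subgroup.centralizer ({z} : Set G)) = 2 * 2 ^ p)
    (hm : Nat.card M = 2 ^ p + 1) :
    ∃ (d : ℕ) (E : Subgroup G), 1 ≤ d ∧ E.Normal ∧ Cfsg.IsElementaryAbelian 2 E ∧
      Nat.card E = 2 ^ (2 * d) ∧ E ⊓ N = ⊥ ∧ E ⊔ N = ⊤ ∧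
      Nonempty (N ≃* DihedralGroup (2 ^ d + 1)) := by
  haveI : Fact (Nat.Prime 2) := ⟨Nat.prime_two⟩
  set P := 2 ^ p with hPdef
  have hP : 2 ≤ P := le_trans (by norm_num) (Nat.pow_le_pow_right two_pos hp)
  have hG : Nat.card G = Nat.card M * (2 * P * P) := by
    have hcc := H.card_cent
    rw [hk, hC] at hcc
    rw [H.card_G, hk, hm]
    have hc : Nat.card (OuterCent M z) = 2 * P - 2 := by omega
    rw [hc]
    congr 1
    zify [show 2 ≤ 2 * P by omega]
    ring
  have hcop : (2 * P * P).Coprime (Nat.card M) := coprime_card_G hPdef H.odd_M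
  -- a Sylow 2-subgroup is a complement of `M`
  obtain ⟨T⟩ : Nonempty (Sylow 2 G) := inferInstance
  obtain ⟨i, hi⟩ := IsPGroup.iff_card.1 T.2
  have hcopT : (Nat.card (T : Subgroup G)).Coprime (Nat.card M) := by
    rw [hi]; exact Nat.Coprime.pow_left _ (Nat.coprime_two_left.2 H.odd_M)
  have hTd : Nat.card (T : Subgroup G) ∣ 2 * P * P :=
    hcopT.dvd_of_dvd_mul_left (hG ▸ Subgroup.card_subgroup_dvd_card (T : Subgroup G))
  have hdT : 2 * P * P ∣ Nat.card (T : Subgroup G) := by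
    rw [hPdef, show 2 * 2 ^ p * 2 ^ p = 2 ^ (p + 1 + p) by ring]
    refine T.pow_dvd_card_of_pow_dvd_card ?_
    rw [hG, hPdef, show 2 * 2 ^ p * 2 ^ p = 2 ^ (p + 1 + p) by ring]
    exact Dvd.intro_left _ rfl
  have hT := Nat.dvd_antisymm hTd hdT
  have hfact : ∀ g : G, ∃ a ∈ (T : Subgroup G), ∃ b ∈ M, g = a * b := by
    have hb : Function.Bijective fun q : ↥(T : Subgroup G) × M => (q.1 : G) * q.2 := by
      refine (Nat.bijective_iff_injective_and_card _).2 ⟨?_, by
        rw [Nat.card_prod, hT, hG, mul_comm]⟩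
      intro a b e
      have e' : (b.1 : G)⁻¹ * a.1 = b.2 * (a.2 : G)⁻¹ := by
        calc (b.1 : G)⁻¹ * a.1 = (b.1 : G)⁻¹ * ((a.1 : G) * a.2) * (a.2 : G)⁻¹ := by group
          _ = (b.1 : G)⁻¹ * ((b.1 : G) * b.2) * (a.2 : G)⁻¹ := by rw [show (a.1 : G) * a.2 = b.1 * b.2 from e]
          _ = _ := by group
      have h1 : (b.1 : G)⁻¹ * a.1 = 1 := by
        have := Subgroup.inf_eq_bot_of_coprime hcopT
        rw [Subgroup.eq_bot_iff_forall] at this
        exact this _ (Subgroup.mem_inf.2 ⟨mul_mem (inv_mem b.1.2) a.1.2, e' ▸ mul_mem b.2.2 (inv_mem a.2.2)⟩)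
      have h2 : (a.1 : G) = b.1 := (inv_mul_eq_one.mp h1).symm
      refine Prod.ext (Subtype.ext h2) (Subtype.ext ?_)
      exact mul_left_cancel ((show (a.1 : G) * a.2 = b.1 * b.2 from e).trans (by rw [h2]))
    intro g
    obtain ⟨⟨a, b⟩, rfl⟩ := hb.2 g
    exact ⟨a, a.2, b, b.2, rfl⟩
  haveI hMc : IsMulCommutative M := ⟨⟨fun a b => Subtype.ext (H.comm_M a.2 b.2).eq⟩⟩
  letI : CommGroup M := { (inferInstance : Group M) with mul_comm := fun a b => hMc.is_comm.comm a b }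
  have hsolv : Group.IsSolvable G :=
    CfsgLib.KegelWielandt.isSolvable _ rfl (T : Subgroup G) M T.2.isNilpotent inferInstance hfact
  haveI : Nontrivial G := ⟨⟨z, 1, H.z_ne⟩⟩
  obtain ⟨L, hL⟩ := CfsgLib.MinNormal.exists_isMinNormal (G := G)
  haveI := hsolv
  haveI hLn : L.Normal := hL.1
  have hLc := hL.isMulCommutative
  have hL1 : L ≠ ⊥ := hL.2.1
  obtain ⟨r, hr, ⟨-, hLexp⟩, hLr, -⟩ := hL.exists_prime_elementaryAbelian hLc
  haveI : Fact r.Prime := ⟨hr⟩
  obtain ⟨⟨l, hl⟩, hl1⟩ := L.ne_bot_iff_exists_ne_one.1 hL1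
  have hl1' : l ≠ 1 := fun e => hl1 (Subtype.ext e)
  -- `L` is a 2-group
  have hr2 : r = 2 := by
    by_contra hne
    have hrG : r ∣ Nat.card G := by
      rw [← orderOf_eq_prime (hLexp l hl) hl1']; exact orderOf_dvd_natCard l
    have hrM : ¬ r ∣ 2 * P * P := by
      rw [hPdef, show 2 * 2 ^ p * 2 ^ p = 2 ^ (p + 1 + p) by ring]
      exact fun h => hne ((Nat.prime_dvd_prime_iff_eq hr Nat.prime_two).1 (hr.dvd_of_dvd_pow h))
    obtain ⟨S₀⟩ : Nonempty (Sylow r M) := inferInstance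
    have hS : IsPGroup r ((S₀ : Subgroup M).map M.subtype) := S₀.2.map _
    have hSc : Nat.card ((S₀ : Subgroup M).map M.subtype) = r ^ (Nat.card G).factorization r := by
      rw [Subgroup.card_map_of_injective M.subtype_injective, S₀.card_eq_multiplicity, hG,
        Nat.factorization_mul Nat.card_pos.ne' (by positivity), Finsupp.add_apply,
        Nat.factorization_eq_zero_of_not_dvd hrM, add_zero]
    let S : Sylow r G := Sylow.ofCard _ hSc
    have hle : L ≤ (S : Subgroup G) := by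
      have h1 : IsPGroup r (L ⊔ (S : Subgroup G) : Subgroup G) :=
        hLr.to_sup_of_normal_left S.2
      exact le_sup_left.trans (S.is_maximal' h1 le_sup_right).le
    have hlM : ∀ v ∈ L, v ∈ M := fun v hv => Subgroup.map_subtype_le _ (hle hv)
    refine H.notN ((Subgroup.eq_top_iff' _).2 fun g => H.ti g l (hlM l hl) hl1' ?_)
    exact hlM _ (hLn.conj_mem l hl g)
  subst hr2
  have hLN : L ⊓ N = ⊥ := by
    rw [Subgroup.eq_bot_iff_forall]
    rintro v ⟨hv, hvN⟩
    by_contra hv1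
    have hv2 : orderOf v = 2 := orderOf_eq_prime (hLexp v hv) hv1
    obtain ⟨x, hx, hx1⟩ : ∃ x ∈ M, x ≠ 1 := by
      obtain ⟨⟨x, hx⟩, hx1⟩ := M.ne_bot_iff_exists_ne_one.1 H.hne
      exact ⟨x, hx, fun e => hx1 (Subtype.ext e)⟩
    have hmem : (x * x)⁻¹ ∈ L := by
      have h1 : v * (x * v * x⁻¹) ∈ L := mul_mem hv (hLn.conj_mem v hv x)
      rwa [show v * (x * v * x⁻¹) = (v * x * v) * x⁻¹ by group, H.inverts hv2 hvN hx,
        ← mul_inv_rev] at h1
    have h2 := hLexp _ hmem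
    rw [pow_two, ← mul_inv_rev, inv_eq_one] at h2
    exact hx1 (H.eq_of_mul_self hx (H.eq_of_mul_self (mul_mem hx hx) h2))
  have hfpf : ∀ x ∈ M, x ≠ 1 → ∀ v ∈ L, Commute x v → v = 1 := fun x hx hx1 v hv hc =>
    H.noinv x hx hx1 v hc.symm.eq (by rw [← pow_two]; exact hLexp v hv)
  have hcyc : IsCyclic M := CfsgLib.FewOrders.isCyclic_of_conj_fpf L M hL1 hfpf
  have hdvd : Nat.card M ∣ Nat.card L - 1 := by
    letI : MulDistribMulAction M L :=
      MulDistribMulAction.compHom L ((MulAut.conjNormal (H := L)).comp M.subtype)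
    have hf : CfsgLib.Frobenius.IsFPF M L := by
      intro x hx v hv
      have hv' : (MulAut.conjNormal (x : G) v : G) = v := congrArg Subtype.val hv
      rw [MulAut.conjNormal_apply] at hv'
      exact Subtype.ext (hfpf x x.2 (fun h0 => hx (Subtype.ext h0)) v v.2
        (mul_inv_eq_iff_eq_mul.1 hv'))
    exact hf.card_dvd_sub_one
  have hmul : Nat.card L * Nat.card N ≤ Nat.card (L ⊔ N : Subgroup G) := by
    rw [← Nat.card_prod]
    refine Nat.card_le_card_of_injective (fun q : L × N => (⟨(q.1 : G) * q.2,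
      mul_mem (Subgroup.mem_sup_left q.1.2) (Subgroup.mem_sup_right q.2.2)⟩ : (L ⊔ N : Subgroup G))) ?_
    intro a b e
    exact Subgroup.mul_injective_of_disjoint (disjoint_iff.2 hLN) (congrArg Subtype.val e)
  have hsup : Nat.card (L ⊔ N : Subgroup G) ≤ Nat.card G := Subgroup.card_le_card_group _
  obtain ⟨j, hj⟩ := IsPGroup.iff_card.1 hLr
  have hj1 : 1 ≤ j := by
    have := (Subgroup.one_lt_card_iff_ne_bot L).2 hL1
    rw [hj] at this
    by_contra h
    interval_cases j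
    simp at this
  rw [H.card_N, hk, hj] at hmul
  rw [hG] at hsup
  have hle : 2 ^ j ≤ P * P := by
    have h := hmul.trans hsup
    have hm0 : 0 < Nat.card M * 2 := Nat.mul_pos Nat.card_pos two_pos
    refine Nat.le_of_mul_le_mul_right (h.trans_eq ?_) hm0
    ring
  have hj2 : j ≤ 2 * p := by
    rw [hPdef, ← pow_add, ← two_mul] at hle
    exact (Nat.pow_le_pow_iff_right (by norm_num)).1 hle
  have hjp := arith hj1 hj2 (by rw [← hPdef, ← hm, ← hj]; exact hdvd)
  subst hjp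
  refine ⟨p, L, hp, hLn, ⟨hLc, hLexp⟩, hj, hLN, ?_, ?_⟩
  · refine Subgroup.eq_top_of_le_card _ (le_trans ?_ hmul)
    rw [hG, hPdef]
    exact le_of_eq (by ring)
  · rw [← hm]
    exact H.normalizer_dihedral hk hcyc

end Hyp

end CfsgLib.LocalEven.TICount
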