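import Mathlib

/-!
TI-subgroups with many involutions: the elementary structure of the configuration.

`M` is a TI-subgroup, `z` an involution with `N(M) = M C_{N(M)}(z)`, no involution centralizes a
nontrivial element of `M`, and there are more involutions than cosets of `M`.
-/

set_option autoImplicit false

namespace CfsgLib.LocalEven.TICount

variable {G : Type*} [Group G] [Finite G]

/-- The standing hypotheses. -/
structure Hyp (M : Subgroup G) (z : G) : Prop where
  hne : M ≠ ⊥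
  ti : ∀ g x, x ∈ M → x ≠ 1 → g * x * g⁻¹ ∈ M → g ∈ Subgroup.normalizer (M : Set G)
  two : orderOf z = 2
  znorm : z ∈ Subgroup.normalizer (M : Set G)
  fac : M ⊔ (Subgroup.normalizer (M : Set G) ⊓ Subgroup.centralizer ({z} : Set G)) =
    Subgroup.normalizer (M : Set G)
  noinv : ∀ x ∈ M, x ≠ 1 → ∀ w, w * x = x * w → w * w = 1 → w = 1
  notN : Subgroup.normalizer (M : Set G) ≠ ⊤
  count : M.index < Nat.card {g : G // orderOf g = 2}

/-- The involutions outside the normalizer. -/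
abbrev Outer (M : Subgroup G) : Type _ :=
  {g : G // orderOf g = 2 ∧ g ∉ Subgroup.normalizer (M : Set G)}

/-- The elements of the centralizer of `z` outside the normalizer. -/
abbrev OuterCent (M : Subgroup G) (z : G) : Type _ :=
  {c : G // Commute c z ∧ c ∉ Subgroup.normalizer (M : Set G)}

/-- The centralizer of `z` in the normalizer. -/
abbrev Kz (M : Subgroup G) (z : G) : Subgroup G :=
  Subgroup.normalizer (M : Set G) ⊓ Subgroup.centralizer ({z} : Set G)

omit [Finite G] in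
theorem mul_self_of {u : G} (h : orderOf u = 2) : u * u = 1 := by
  rw [← pow_two, ← h]; exact pow_orderOf_eq_one u

theorem ne_one_of {u : G} (h : orderOf u = 2) : u ≠ 1 := by
  rintro rfl; simp at h

theorem inv_of {u : G} (h : orderOf u = 2) : u⁻¹ = u :=
  inv_eq_of_mul_eq_one_right (mul_self_of h)

theorem two_of {u : G} (h : u * u = 1) (h1 : u ≠ 1) : orderOf u = 2 :=
  orderOf_eq_prime (by rw [pow_two]; exact h) h1

namespace Hyp

variable {M : Subgroup G} {z : G}

local notation "N" => Subgroup.normalizer (M : Set G)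
local notation "K" => Kz M z

variable (H : Hyp M z)
include H

theorem zz : z * z = 1 := mul_self_of H.two

theorem z_ne : z ≠ 1 := ne_one_of H.two

theorem z_inv : z⁻¹ = z := inv_of H.two

omit H in
theorem mem_K {k : G} : k ∈ K ↔ k ∈ N ∧ Commute k z := by
  rw [Subgroup.mem_inf, Subgroup.mem_centralizer_singleton_iff]
  exact Iff.rfl

theorem z_mem_K : z ∈ K := mem_K.2 ⟨H.znorm, Commute.refl z⟩

omit H in
theorem conj_mem {n x : G} (hn : n ∈ N) (hx : x ∈ M) : n * x * n⁻¹ ∈ M :=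
  (Subgroup.mem_normalizer_iff.1 hn x).1 hx

omit H in
theorem conj_mem' {n x : G} (hn : n ∈ N) (hx : x ∈ M) : n⁻¹ * x * n ∈ M := by
  simpa using conj_mem (inv_mem hn) hx

omit H in
theorem M_le : M ≤ N := Subgroup.le_normalizer

theorem decomp {n : G} (hn : n ∈ N) : ∃ x ∈ M, ∃ k ∈ K, n = x * k := by
  have h1 : n ∈ ((M ⊔ K : Subgroup G) : Set G) := by rw [H.fac]; exact hn
  rw [Subgroup.coe_mul_of_right_le_normalizer_left M K inf_le_left] at h1
  obtain ⟨x, hx, k, hk, e⟩ := h1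
  exact ⟨x, hx, k, hk, e.symm⟩

theorem eq_one_of_commute_inv {x w : G} (hx : x ∈ M) (hw : orderOf w = 2) (hc : Commute w x) :
    x = 1 := by
  by_contra h
  exact ne_one_of hw (H.noinv x hx h w hc.eq (mul_self_of hw))

theorem commute_z_eq_one {x : G} (hx : x ∈ M) (hc : Commute x z) : x = 1 :=
  H.eq_one_of_commute_inv hx H.two hc.symm

theorem eq_one_of_mem_K {x : G} (hx : x ∈ M) (hk : x ∈ K) : x = 1 :=
  H.commute_z_eq_one hx (mem_K.1 hk).2

theorem eq_of_mul_self {x : G} (hx : x ∈ M) (h : x * x = 1) : x = 1 := by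
  by_contra h1
  exact h1 (H.noinv x hx h1 x rfl h)

theorem odd_M : Odd (Nat.card M) := by
  rw [← Nat.not_even_iff_odd, even_iff_two_dvd]
  intro h
  haveI : Fact (Nat.Prime 2) := ⟨Nat.prime_two⟩
  obtain ⟨⟨x, hx⟩, hx2⟩ := exists_prime_orderOf_dvd_card' 2 h
  have hx2' : orderOf x = 2 := by rw [← Subgroup.orderOf_mk x hx]; exact hx2
  exact ne_one_of hx2' (H.eq_of_mul_self hx (mul_self_of hx2'))

theorem exists_sqrt {x : G} (hx : x ∈ M) : ∃ w ∈ M, w * w = x := by
  obtain ⟨j, hj⟩ := H.odd_M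
  refine ⟨x ^ (j + 1), pow_mem hx _, ?_⟩
  have h1 : (⟨x, hx⟩ : M) ^ Nat.card M = 1 := pow_card_eq_one'
  have h2 : x ^ Nat.card M = 1 := congrArg Subtype.val h1
  rw [← pow_add, show j + 1 + (j + 1) = Nat.card M + 1 by omega, pow_succ, h2, one_mul]

/-- An involution of the normalizer inverts `M`. -/
theorem inverts {y : G} (hy : orderOf y = 2) (hyN : y ∈ N) {x : G} (hx : x ∈ M) :
    y * x * y = x⁻¹ := by
  have hy2 := mul_self_of hy
  have hf : ∀ a : M, (a : G)⁻¹ * (y * a * y) ∈ M := fun a =>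
    mul_mem (inv_mem a.2) (by
      have := conj_mem hyN a.2
      rwa [inv_of hy] at this)
  let f : M → M := fun a => ⟨(a : G)⁻¹ * (y * a * y), hf a⟩
  have hinj : Function.Injective f := by
    intro a b e
    have e' : (a : G)⁻¹ * (y * a * y) = (b : G)⁻¹ * (y * b * y) := congrArg Subtype.val e
    have hc : Commute y ((b : G) * (a : G)⁻¹) := by
      have h1 : (b : G) * (a : G)⁻¹ = y * ((b : G) * (a : G)⁻¹) * y := by
        have h3 : y * a * y = a * ((b : G)⁻¹ * (y * b * y)) := by rw [← e']; group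
        calc (b : G) * (a : G)⁻¹ = (y * b * y) * (a * ((b : G)⁻¹ * (y * b * y)))⁻¹ := by group
          _ = (y * b * y) * (y * a * y)⁻¹ := by rw [h3]
          _ = y * b * (a : G)⁻¹ * y⁻¹ := by group
          _ = y * ((b : G) * (a : G)⁻¹) * y := by rw [inv_of hy]; group
      show y * ((b : G) * (a : G)⁻¹) = (b : G) * (a : G)⁻¹ * y
      conv_rhs => rw [h1]
      rw [mul_assoc (y * _) y y, hy2, mul_one]
    have h2 := H.eq_one_of_commute_inv (mul_mem b.2 (inv_mem a.2)) hy hc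
    exact Subtype.ext (mul_inv_eq_one.mp h2).symm
  obtain ⟨a, ha⟩ := (Finite.injective_iff_surjective.mp hinj) ⟨x, hx⟩
  have ha' : (a : G)⁻¹ * (y * a * y) = x := congrArg Subtype.val ha
  rw [← ha']
  calc y * ((a : G)⁻¹ * (y * a * y)) * y = y * (a : G)⁻¹ * y * a * (y * y) := by group
    _ = y * (a : G)⁻¹ * y⁻¹ * a := by rw [hy2, mul_one, inv_of hy]
    _ = ((a : G)⁻¹ * (y * a * y⁻¹))⁻¹ := by group
    _ = ((a : G)⁻¹ * (y * a * y))⁻¹ := by rw [inv_of hy]

theorem z_inverts {x : G} (hx : x ∈ M) : z * x * z = x⁻¹ := H.inverts H.two H.znorm hx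

theorem z_mul {x : G} (hx : x ∈ M) : z * x = x⁻¹ * z := by
  rw [← H.z_inverts hx, mul_assoc (z * x), H.zz, mul_one]

theorem comm_M {a b : G} (ha : a ∈ M) (hb : b ∈ M) : Commute a b := by
  have h := H.z_inverts (mul_mem (inv_mem ha) (inv_mem hb))
  rw [show z * (a⁻¹ * b⁻¹) * z = (z * a⁻¹ * z) * (z⁻¹ * b⁻¹ * z) by group, H.z_inv,
    H.z_inverts (inv_mem ha), H.z_inverts (inv_mem hb), inv_inv, inv_inv, mul_inv_rev, inv_inv,
    inv_inv] at h
  exact h

/-- The involutions of the normalizer are the `x * z`, `x ∈ M`. -/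
theorem inv_mem_coset {y : G} (hy : orderOf y = 2) (hyN : y ∈ N) : ∃ x ∈ M, y = x * z := by
  obtain ⟨x, hx, k, hk, rfl⟩ := H.decomp hyN
  obtain ⟨hkN, hkz⟩ := mem_K.1 hk
  refine ⟨x, hx, ?_⟩
  have hxk : ∀ a ∈ M, k * a * k⁻¹ = a⁻¹ := by
    intro a ha
    have h1 := H.inverts hy hyN ha
    have h2 : x * k * a * (x * k)⁻¹ = a⁻¹ := by rw [inv_of hy]; exact h1
    rw [← h2]
    have h3 : x * (k * a * k⁻¹) = k * a * k⁻¹ * x := H.comm_M hx (conj_mem hkN ha)
    calc k * a * k⁻¹ = k * a * k⁻¹ * x * x⁻¹ := by group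
      _ = x * (k * a * k⁻¹) * x⁻¹ := by rw [h3]
      _ = x * k * a * (x * k)⁻¹ := by group
  have hk2 : k * k = 1 := by
    have h1 := mul_self_of hy
    rw [show x * k * (x * k) = x * (k * x * k⁻¹) * (k * k) by group, hxk x hx, mul_inv_cancel,
      one_mul] at h1
    exact h1
  obtain ⟨⟨a, ha⟩, ha1⟩ := M.ne_bot_iff_exists_ne_one.1 H.hne
  have ha1' : a ≠ 1 := fun e => ha1 (Subtype.ext e)
  have hkzc : Commute (k * z) a := by
    show k * z * a = a * (k * z)
    have h5 : k * a⁻¹ = a * k := mul_inv_eq_iff_eq_mul.mp (by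
      rw [hxk _ (inv_mem ha), inv_inv])
    calc k * z * a = k * (z * a) := by group
      _ = k * a⁻¹ * z := by rw [H.z_mul ha]; group
      _ = a * (k * z) := by rw [h5]; group
  have h7 : k * z * (k * z) = 1 := by
    rw [show k * z * (k * z) = k * (z * k) * z by group, ← hkz.eq,
      show k * (k * z) * z = (k * k) * (z * z) by group, hk2, H.zz, one_mul]
  have h8 : k * z = 1 := H.noinv a ha ha1' (k * z) hkzc.eq h7
  rw [eq_inv_of_mul_eq_one_left h8, H.z_inv]

/-- `z` is the only involution of `C_N(z)`. -/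
theorem K_unique {y : G} (hy : y * y = 1) (hy1 : y ≠ 1) (hyK : y ∈ K) : y = z := by
  obtain ⟨x, hx, rfl⟩ := H.inv_mem_coset (two_of hy hy1) (mem_K.1 hyK).1
  have : Commute x z := by
    have h1 : x * z * z = z * (x * z) := (mem_K.1 hyK).2
    show x * z = z * x
    have := congrArg (· * z) h1
    simpa [mul_assoc, H.zz] using this
  rw [H.commute_z_eq_one hx this, one_mul]

theorem card_N : Nat.card N = Nat.card M * Nat.card K := by
  rw [← Nat.card_prod]
  refine (Nat.card_congr (Equiv.ofBijective (fun p : M × K =>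
    (⟨(p.1 : G) * p.2, mul_mem (M_le p.1.2) (mem_K.1 p.2.2).1⟩ : N)) ⟨?_, ?_⟩)).symm
  · intro p q e
    have e' : (p.1 : G) * p.2 = q.1 * q.2 := congrArg Subtype.val e
    have h1 : (q.1 : G)⁻¹ * p.1 = q.2 * (p.2 : G)⁻¹ := by
      calc (q.1 : G)⁻¹ * p.1 = (q.1 : G)⁻¹ * ((p.1 : G) * p.2) * (p.2 : G)⁻¹ := by group
        _ = q.2 * (p.2 : G)⁻¹ := by rw [e']; group
    have h2 := H.eq_one_of_mem_K (mul_mem (inv_mem q.1.2) p.1.2)
      (by rw [h1]; exact mul_mem q.2.2 (inv_mem p.2.2))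
    have h3 : (p.1 : G) = q.1 := (inv_mul_eq_one.mp h2).symm
    refine Prod.ext (Subtype.ext h3) (Subtype.ext ?_)
    rw [h3] at e'
    exact mul_left_cancel e'
  · rintro ⟨n, hn⟩
    obtain ⟨x, hx, k, hk, rfl⟩ := H.decomp hn
    exact ⟨(⟨x, hx⟩, ⟨k, hk⟩), rfl⟩

theorem index_eq : M.index = (N).index * Nat.card K := by
  apply Nat.eq_of_mul_eq_mul_left (Nat.card_pos (α := M))
  rw [M.card_mul_index, ← (N).card_mul_index, H.card_N]
  ring

omit H in
theorem coset_inj {u v : G} (hu : orderOf u = 2) (hv : orderOf v = 2) (hun : u ∉ N)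
    (hti : ∀ g x, x ∈ M → x ≠ 1 → g * x * g⁻¹ ∈ M → g ∈ N) (h : u⁻¹ * v ∈ M) : u = v := by
  by_contra hne
  have h1 : u⁻¹ * v ≠ 1 := fun e => hne (inv_mul_eq_one.mp e)
  refine hun (hti u _ h h1 ?_)
  have h2 : u * (u⁻¹ * v) * u⁻¹ = (u⁻¹ * v)⁻¹ := by
    rw [mul_inv_rev, inv_inv, inv_of hu, inv_of hv, ← mul_assoc, mul_self_of hu, one_mul]
  rw [h2]; exact inv_mem h

/-- Every coset of `M` outside the normalizer contains an involution. -/
theorem exists_inv {g : G} (hg : g ∉ N) : ∃ u, orderOf u = 2 ∧ u ∉ N ∧ g⁻¹ * u ∈ M := by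
  by_contra hno
  simp only [not_exists, not_and] at hno
  classical
  let e : K ⊕ Outer M ⊕ M → G ⧸ M := fun p => match p with
    | Sum.inl k => (QuotientGroup.mk (k : G))
    | Sum.inr (Sum.inl s) => (QuotientGroup.mk (s : G))
    | Sum.inr (Sum.inr x) => (QuotientGroup.mk ((x : G) * g))
  have key : ∀ (x : M) (s : Outer M), (x : G) * g ≠ (s : G) → ¬ ((x : G) * g)⁻¹ * s ∈ M := by
    intro x s _ h
    apply hno ((x : G)⁻¹ * s * x) ?_ ?_ ?_
    · rw [show (x : G)⁻¹ * s * x = MulAut.conj (x : G)⁻¹ (s : G) by simp, MulEquiv.orderOf_eq]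
      exact s.2.1
    · intro h1
      apply s.2.2
      have := mul_mem (mul_mem (M_le x.2) h1) (inv_mem (M_le x.2))
      simpa [mul_assoc] using this
    · rw [show g⁻¹ * ((x : G)⁻¹ * s * x) = ((x : G) * g)⁻¹ * s * x by group]
      exact mul_mem h x.2
  have key' : ∀ (x : M) (s : Outer M), ¬ ((x : G) * g)⁻¹ * s ∈ M := by
    intro x s
    by_cases h : (x : G) * g = s
    · intro _
      apply hno ((x : G)⁻¹ * s * x) ?_ ?_ ?_
      · rw [show (x : G)⁻¹ * s * x = MulAut.conj (x : G)⁻¹ (s : G) by simp, MulEquiv.orderOf_eq]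
        exact s.2.1
      · intro h1
        apply s.2.2
        have := mul_mem (mul_mem (M_le x.2) h1) (inv_mem (M_le x.2))
        simpa [mul_assoc] using this
      · rw [← h]
        simp [mul_assoc, x.2]
    · exact key x s h
  have einj : Function.Injective e := by
    rintro (k | s | x) (k' | s' | x') h <;>
      simp only [e, QuotientGroup.eq] at h
    · refine congrArg Sum.inl (Subtype.ext ?_)
      exact inv_mul_eq_one.mp (H.eq_one_of_mem_K h (mul_mem (inv_mem k.2) k'.2))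
    · exact absurd (by simpa using mul_mem (mem_K.1 k.2).1 (M_le h)) s'.2.2
    · exact absurd (by
        have h1 := mul_mem (inv_mem (M_le x'.2)) (mul_mem (mem_K.1 k.2).1 (M_le h))
        simpa [mul_assoc] using h1) hg
    · exact absurd (by simpa using mul_mem (mem_K.1 k'.2).1 (inv_mem (M_le h))) s.2.2
    · exact congrArg (Sum.inr ∘ Sum.inl) (Subtype.ext (coset_inj s.2.1 s'.2.1 s.2.2 H.ti h))
    · exact absurd (by simpa using inv_mem h) (key' x' s)
    · exact absurd (by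
        have h1 := mul_mem (inv_mem (M_le x.2)) (mul_mem (mem_K.1 k'.2).1 (inv_mem (M_le h)))
        simpa [mul_assoc] using h1) hg
    · exact absurd h (key' x s')
    · refine congrArg (Sum.inr ∘ Sum.inr) ?_
      by_contra hne
      have h1 : (x : G)⁻¹ * x' ≠ 1 := fun e => hne (Subtype.ext (inv_mul_eq_one.mp e))
      have h2 := H.ti g⁻¹ _ (mul_mem (inv_mem x.2) x'.2) h1
        (by simpa [mul_assoc] using h)
      exact hg (by simpa using inv_mem h2)
  have h1 := Nat.card_le_card_of_injective e einj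
  rw [Nat.card_sum, Nat.card_sum] at h1
  change _ ≤ M.index at h1
  have h2 : Nat.card {g : G // orderOf g = 2} ≤ Nat.card M + Nat.card (Outer M) := by
    rw [← Nat.card_sum]
    have f : ∀ v : {g : G // orderOf g = 2}, (v : G) ∈ N → ∃ x ∈ M, (v : G) = x * z :=
      fun v hv => H.inv_mem_coset v.2 hv
    refine Nat.card_le_card_of_injective (fun v => if h : (v : G) ∈ N then
      Sum.inl (⟨(f v h).choose, (f v h).choose_spec.1⟩ : M) else Sum.inr ⟨v, v.2, h⟩) ?_
    intro v w e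
    dsimp only at e
    split_ifs at e with h h'
    · have := congrArg Subtype.val (Sum.inl_injective e)
      exact Subtype.ext (by rw [(f v h).choose_spec.2, (f w h').choose_spec.2]; exact congrArg (· * z) this)
    · exact Subtype.ext (congrArg (fun w : Outer M => (w : G)) (Sum.inr_injective e) :)
  have := H.count
  omega

theorem semireg {g x : G} (hg : g ∉ N) (hx : x ∈ M) (h : g⁻¹ * x * g ∈ N) : x = 1 := by
  obtain ⟨u, hu, huN, hug⟩ := H.exists_inv hg
  have huu := mul_self_of hu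
  have hw : u * x * u ∈ N := by
    have h1 : u * x * u = (g⁻¹ * u)⁻¹ * (g⁻¹ * x * g) * (g⁻¹ * u) := by
      conv_lhs => arg 1; arg 1; rw [← inv_of hu]
      group
    rw [h1]
    exact mul_mem (mul_mem (inv_mem (M_le hug)) h) (M_le hug)
  -- an involution of the normalizer commuting with `u`
  obtain ⟨v, hv, hvN, hvg⟩ := H.exists_inv (g := u * z) (fun h1 => huN (by
    simpa [mul_assoc, H.zz] using mul_mem h1 H.znorm))
  obtain ⟨x0, hx0, rfl⟩ : ∃ x0 ∈ M, v = u * z * x0 := ⟨_, hvg, by group⟩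
  have hyy : z * x0 * (z * x0) = 1 := by
    rw [show z * x0 * (z * x0) = (z * x0 * z) * x0 by group, H.z_inverts hx0, inv_mul_cancel]
  have hyN : z * x0 ∈ N := mul_mem H.znorm (M_le hx0)
  have hy : orderOf (z * x0) = 2 := by
    refine two_of hyy fun e => H.z_ne (H.eq_of_mul_self ?_ H.zz)
    have h9 : z = x0⁻¹ := eq_inv_of_mul_eq_one_left e
    rw [h9]; exact inv_mem hx0
  have hcomm : u * (z * x0) = z * x0 * u := by
    have h1 := mul_self_of hv
    calc u * (z * x0) = u * (z * x0) * (u * u) := by rw [huu, mul_one]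
      _ = (u * z * x0) * (u * z * x0) * (z * x0)⁻¹ * u := by group
      _ = (z * x0)⁻¹ * u := by rw [h1, one_mul]
      _ = z * x0 * u := by rw [inv_of hy]
  set y := z * x0 with hydef
  obtain ⟨x1, hx1, k, hk, e⟩ := H.decomp hw
  obtain ⟨hkN, hkz⟩ := mem_K.1 hk
  have h3 : y * (u * x * u) * y = (u * x * u)⁻¹ := by
    calc y * (u * x * u) * y = (y * u) * x * (u * y) := by group
      _ = (u * y) * x * (y * u) := by rw [← hcomm]
      _ = u * (y * x * y) * u := by group
      _ = u * x⁻¹ * u := by rw [H.inverts hy hyN hx]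
      _ = (u * x * u)⁻¹ := by rw [mul_inv_rev, mul_inv_rev, inv_of hu]; group
  rw [e] at h3
  have h4 : k * k ∈ M := by
    have hb : k * (k⁻¹ * x0⁻¹ * k) = x0⁻¹ * k := by group
    have e1 : y * (x1 * k) * y = x0⁻¹ * x1⁻¹ * k * x0 := by
      rw [hydef, show z * x0 * (x1 * k) * (z * x0) = z * (x0 * x1) * (k * z) * x0 by group,
        hkz.eq, show z * (x0 * x1) * (z * k) * x0 = z * (x0 * x1) * z * k * x0 by group,
        H.z_inverts (mul_mem hx0 hx1), mul_inv_rev, (H.comm_M (inv_mem hx1) (inv_mem hx0)).eq]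
    rw [e1, mul_inv_rev] at h3
    have e2 : k * k = k * (x0⁻¹ * x1⁻¹)⁻¹ * k⁻¹ * x1⁻¹ * x0⁻¹ := by
      calc k * k = k * ((x0⁻¹ * x1⁻¹)⁻¹ * (x0⁻¹ * x1⁻¹ * k * x0)) * x0⁻¹ := by group
        _ = k * ((x0⁻¹ * x1⁻¹)⁻¹ * (k⁻¹ * x1⁻¹)) * x0⁻¹ := by rw [h3]
        _ = _ := by group
    rw [e2]
    exact mul_mem (mul_mem (conj_mem hkN (inv_mem (mul_mem (inv_mem hx0) (inv_mem hx1))))
      (inv_mem hx1)) (inv_mem hx0)
  have hk2 : k * k = 1 := H.eq_one_of_mem_K h4 (mul_mem hk hk)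
  have hk1 : k = 1 := by
    by_contra hk1
    rw [H.K_unique hk2 hk1 hk] at e
    have h5 : (u * x * u) * (u * x * u) = 1 := by
      rw [e, show x1 * z * (x1 * z) = x1 * (z * x1 * z) by group, H.z_inverts hx1, mul_inv_cancel]
    rw [show u * x * u * (u * x * u) = u * x * (u * u) * x * u by group, huu, mul_one] at h5
    have h6 : x * x = 1 := by
      calc x * x = (u * u) * (x * x) * (u * u) := by rw [huu, one_mul, mul_one]
        _ = u * (u * x * x * u) * u := by group
        _ = 1 := by rw [h5, mul_one, huu]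
    have h7 := H.eq_of_mul_self hx h6
    rw [h7, mul_one, huu] at e
    exact H.z_ne (H.eq_of_mul_self (by
      rw [eq_inv_of_mul_eq_one_right e.symm]; exact inv_mem hx1) H.zz)
  rw [hk1, mul_one] at e
  by_contra hx'
  exact huN (H.ti u x hx hx' (by rw [inv_of hu, e]; exact hx1))

/-- An involution outside the normalizer inverts the elements of `N ∩ Nᵘ`. -/
theorem inverted {u d : G} (hu : orderOf u = 2) (huN : u ∉ N) (hd : d ∈ N) (hd' : u * d * u ∈ N) :
    u * d * u = d⁻¹ := by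
  have huu := mul_self_of hu
  obtain ⟨v, hv, -, hvg⟩ := H.exists_inv (g := u * d) (fun h1 => huN (by
    simpa [mul_assoc] using mul_mem h1 (inv_mem hd)))
  obtain ⟨x, hx, rfl⟩ : ∃ x ∈ M, v = u * d * x := ⟨_, hvg, by group⟩
  have h1 : u * (d * x) * u = (d * x)⁻¹ :=
    eq_inv_of_mul_eq_one_left (by
      rw [show u * (d * x) * u * (d * x) = (u * d * x) * (u * d * x) by group]
      exact mul_self_of hv)
  have h2 : u⁻¹ * x * u ∈ N := by
    have e : u⁻¹ * x * u = (u * d * u)⁻¹ * (u * (d * x) * u) := by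
      rw [show (u * d * u)⁻¹ * (u * (d * x) * u) = u⁻¹ * d⁻¹ * (u⁻¹ * u) * (d * x) * u by group]
      group
    rw [e, h1]
    exact mul_mem (inv_mem hd') (inv_mem (mul_mem hd (M_le hx)))
  have hx1 := H.semireg huN hx h2
  rw [hx1, mul_one] at h1
  exact h1

/-- Every element of the normalizer has an `M`-translate inverted by a given involution outside. -/
theorem exists_shift {u h : G} (hu : orderOf u = 2) (huN : u ∉ N) (hh : h ∈ N) :
    ∃ x ∈ M, u * (h * x) * u = (h * x)⁻¹ := by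
  obtain ⟨v, hv, -, hvg⟩ := H.exists_inv (g := u * h) (fun h1 => huN (by
    simpa [mul_assoc] using mul_mem h1 (inv_mem hh)))
  obtain ⟨x, hx, rfl⟩ : ∃ x ∈ M, v = u * h * x := ⟨_, hvg, by group⟩
  exact ⟨x, hx, eq_inv_of_mul_eq_one_left (by
    rw [show u * (h * x) * u * (h * x) = (u * h * x) * (u * h * x) by group]
    exact mul_self_of hv)⟩

theorem inverted_comm {u a b : G} (hu : orderOf u = 2) (huN : u ∉ N) (ha : a ∈ N)
    (ha' : u * a * u ∈ N) (hb : b ∈ N) (hb' : u * b * u ∈ N) : Commute a b := by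
  have huu := mul_self_of hu
  have e : u * (a⁻¹ * b⁻¹) * u = (u * a⁻¹ * u) * (u * b⁻¹ * u) := by
    rw [show u * a⁻¹ * u * (u * b⁻¹ * u) = u * a⁻¹ * (u * u) * b⁻¹ * u by group, huu, mul_one]
    group
  have hai : u * a⁻¹ * u = a := by
    rw [show u * a⁻¹ * u = (u⁻¹ * a * u⁻¹)⁻¹ by group, inv_of hu, H.inverted hu huN ha ha', inv_inv]
  have hbi : u * b⁻¹ * u = b := by
    rw [show u * b⁻¹ * u = (u⁻¹ * b * u⁻¹)⁻¹ by group, inv_of hu, H.inverted hu huN hb hb', inv_inv]
  have h1 := H.inverted hu huN (mul_mem (inv_mem ha) (inv_mem hb))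
    (by rw [e, hai, hbi]; exact mul_mem ha hb)
  rw [e, hai, hbi, mul_inv_rev, inv_inv, inv_inv] at h1
  exact h1

/-- Some `M`-conjugate of `z` commutes with a given involution outside the normalizer. -/
theorem exists_conj_comm {u : G} (hu : orderOf u = 2) (huN : u ∉ N) :
    ∃ w ∈ M, orderOf (w⁻¹ * u * w) = 2 ∧ w⁻¹ * u * w ∉ N ∧ Commute (w⁻¹ * u * w) z := by
  obtain ⟨x, hx, h1⟩ := H.exists_shift hu huN H.znorm
  obtain ⟨w, hw, hww⟩ := H.exists_sqrt (inv_mem hx)
  have hzx : z * x = w * z * w⁻¹ := by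
    rw [H.z_mul hx, ← hww, mul_assoc w z, H.z_mul (inv_mem hw), inv_inv, mul_assoc]
  have hyy : z * x * (z * x) = 1 := by
    rw [show z * x * (z * x) = (z * x * z) * x by group, H.z_inverts hx, inv_mul_cancel]
  rw [inv_eq_of_mul_eq_one_right hyy] at h1
  have hc : u * (z * x) = z * x * u := by
    calc u * (z * x) = u * (z * x) * (u * u) := by rw [mul_self_of hu, mul_one]
      _ = u * (z * x) * u * u := by group
      _ = z * x * u := by rw [h1]
  rw [hzx] at hc
  refine ⟨w, hw, ?_, ?_, ?_⟩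
  · rw [show w⁻¹ * u * w = MulAut.conj w⁻¹ u by simp, MulEquiv.orderOf_eq]; exact hu
  · intro h2
    have := mul_mem (mul_mem (M_le hw) h2) (inv_mem (M_le hw))
    exact huN (by simpa [mul_assoc] using this)
  · show w⁻¹ * u * w * z = z * (w⁻¹ * u * w)
    calc w⁻¹ * u * w * z = w⁻¹ * (u * (w * z * w⁻¹)) * w := by group
      _ = w⁻¹ * (w * z * w⁻¹ * u) * w := by rw [hc]
      _ = z * (w⁻¹ * u * w) := by group

theorem exists_swap : ∃ u, orderOf u = 2 ∧ u ∉ N ∧ Commute u z := by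
  obtain ⟨g, hg⟩ : ∃ g, g ∉ N := by
    by_contra h
    push Not at h
    exact H.notN (Subgroup.eq_top_iff' _ |>.2 h)
  obtain ⟨u, hu, huN, -⟩ := H.exists_inv hg
  obtain ⟨w, -, h⟩ := H.exists_conj_comm hu huN
  exact ⟨_, h⟩

/-- Elements commuting with `z` outside the normalizer are involutions. -/
theorem cent_out {c : G} (hc : Commute c z) (hcN : c ∉ N) : orderOf c = 2 := by
  obtain ⟨v, hv, hvN, hvg⟩ := H.exists_inv hcN
  obtain ⟨x, hx, rfl⟩ : ∃ x ∈ M, v = c * x := ⟨_, hvg, by group⟩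
  have e : c⁻¹ * z * c = z := by rw [mul_assoc, ← hc.eq, inv_mul_cancel_left]
  have h0 : c * x * z * (c * x) = x⁻¹ * z * x := by
    calc c * x * z * (c * x) = (c * x)⁻¹ * z * (c * x) := by rw [inv_of hv]
      _ = x⁻¹ * (c⁻¹ * z * c) * x := by group
      _ = x⁻¹ * z * x := by rw [e]
  have h1 := H.inverted hv hvN H.znorm (by
    rw [h0]; exact mul_mem (mul_mem (inv_mem (M_le hx)) H.znorm) (M_le hx))
  rw [h0, H.z_inv] at h1
  have h2 : Commute x z := by
    show x * z = z * x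
    calc x * z = x * (x⁻¹ * z * x) := by rw [h1]
      _ = z * x := by group
  rw [H.commute_z_eq_one hx h2, mul_one] at hv
  exact hv

theorem K_inverted {u k : G} (hu : orderOf u = 2) (huN : u ∉ N) (huz : Commute u z) (hk : k ∈ K) :
    u * k * u = k⁻¹ := by
  obtain ⟨hkN, hkz⟩ := mem_K.1 hk
  have h : Commute (u * k) z := Commute.mul_left huz hkz
  have h2 := mul_self_of (H.cent_out h (fun h1 => huN (by
    simpa [mul_assoc] using mul_mem h1 (inv_mem hkN))))
  exact eq_inv_of_mul_eq_one_left (by rw [show u * k * u * k = u * k * (u * k) by group]; exact h2)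

theorem comm_K {a b : G} (ha : a ∈ K) (hb : b ∈ K) : Commute a b := by
  obtain ⟨u, hu, huN, huz⟩ := H.exists_swap
  refine H.inverted_comm hu huN (mem_K.1 ha).1 ?_ (mem_K.1 hb).1 ?_
  · rw [H.K_inverted hu huN huz ha]; exact inv_mem (mem_K.1 ha).1
  · rw [H.K_inverted hu huN huz hb]; exact inv_mem (mem_K.1 hb).1

/-- Two involutions outside the normalizer inverting an element of order above two of `K` lie in
the same coset. -/
theorem fix_two {d u v : G} (hd : d ∈ K) (hdd : d * d ≠ 1) (hu : orderOf u = 2) (huN : u ∉ N)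
    (hv : orderOf v = 2) (hud : u * d * u = d⁻¹) (hvd : v * d * v = d⁻¹) : u * v ∈ N := by
  by_contra hg
  obtain ⟨w, hw, hwN, hwg⟩ := H.exists_inv hg
  obtain ⟨x, hx, rfl⟩ : ∃ x ∈ M, w = u * v * x := ⟨_, hwg, by group⟩
  have hvv := mul_self_of hv
  have huu := mul_self_of hu
  have h0 : (u * v * x) * d * (u * v * x) = x⁻¹ * d * x := by
    calc (u * v * x) * d * (u * v * x) = (u * v * x)⁻¹ * d * (u * v * x) := by rw [inv_of hw]
      _ = x⁻¹ * v⁻¹ * (u⁻¹ * d * u) * v * x := by group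
      _ = x⁻¹ * v⁻¹ * d⁻¹ * v * x := by rw [inv_of hu, hud]
      _ = x⁻¹ * (v⁻¹ * d * v⁻¹⁻¹)⁻¹ * x := by group
      _ = x⁻¹ * d * x := by rw [inv_inv, inv_of hv, hvd, inv_inv]
  have hdN := (mem_K.1 hd).1
  have h1 := H.inverted hw hwN hdN (by
    rw [h0]; exact mul_mem (mul_mem (inv_mem (M_le hx)) hdN) (M_le hx))
  rw [h0] at h1
  have h2 : (d * d)⁻¹ = x⁻¹ * (d * x * d⁻¹) := by
    rw [mul_inv_rev]
    calc d⁻¹ * d⁻¹ = x⁻¹ * d * x * d⁻¹ := by rw [h1]
      _ = x⁻¹ * (d * x * d⁻¹) := by group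
  exact hdd (inv_eq_one.mp (H.eq_one_of_mem_K
    (by rw [h2]; exact mul_mem (inv_mem hx) (conj_mem hdN hx)) (inv_mem (mul_mem hd hd))))

/-- `K` acts fixed-point-freely on `M`. -/
theorem fpf {d x : G} (hd : d ∈ K) (hd1 : d ≠ 1) (hx : x ∈ M) (hc : Commute d x) : x = 1 := by
  by_cases hdd : d * d = 1
  · rw [H.K_unique hdd hd1 hd] at hc
    exact H.commute_z_eq_one hx hc.symm
  obtain ⟨u, hu, huN, huz⟩ := H.exists_swap
  have hud := H.K_inverted hu huN huz hd
  obtain ⟨v, hv, hvN, hvg⟩ := H.exists_inv (g := x * u) (fun h1 => huN (by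
    simpa using mul_mem (inv_mem (M_le hx)) h1))
  obtain ⟨x0, hx0, rfl⟩ : ∃ x0 ∈ M, v = x * u * x0 := ⟨_, hvg, by group⟩
  have hdN := (mem_K.1 hd).1
  have h0 : (x * u * x0) * d * (x * u * x0) = x0⁻¹ * d⁻¹ * x0 := by
    calc (x * u * x0) * d * (x * u * x0) = (x * u * x0)⁻¹ * d * (x * u * x0) := by rw [inv_of hv]
      _ = x0⁻¹ * (u⁻¹ * (x⁻¹ * (d * x)) * u) * x0 := by group
      _ = x0⁻¹ * d⁻¹ * x0 := by rw [hc.eq, inv_mul_cancel_left, inv_of hu, hud]
  have hvd := H.inverted hv hvN hdN (by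
    rw [h0]; exact mul_mem (mul_mem (inv_mem (M_le hx0)) (inv_mem hdN)) (M_le hx0))
  have h1 := mul_mem (H.fix_two hd hdd hu huN hv hud hvd) (inv_mem (M_le hx0))
  refine H.semireg huN hx ?_
  rw [inv_of hu]
  simpa [mul_assoc] using h1

end Hyp

end CfsgLib.LocalEven.TICount
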