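import Cfsg.Agent.Lib.PSL2.Tori

/-!
Abelian subgroups of odd order of `PGL₂(2^e)` are cyclic.
-/

set_option autoImplicit false

namespace CfsgLib.LocalEven.TICount

open Matrix CfsgLib.PSL2

theorem isCyclic_of_comm_odd {F : Type} [Field F] [Fintype F] (he : Even (Fintype.card F))
    (A : Subgroup (ProjGenLinGroup (Fin 2) F)) (hc : ∀ a ∈ A, ∀ b ∈ A, a * b = b * a)
    (hodd : Odd (Nat.card A)) : IsCyclic A := by
  classical
  by_cases hA : A = ⊥
  · subst hA; infer_instance
  obtain ⟨⟨c, hc0⟩, hc1⟩ := A.ne_bot_iff_exists_ne_one.1 hA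
  have hsq : ∀ a ∈ A, a * a = 1 → a = 1 := by
    intro a ha h
    have h2 : orderOf (⟨a, ha⟩ : A) ∣ 2 :=
      orderOf_dvd_of_pow_eq_one (Subtype.ext (by rw [Subgroup.coe_pow, pow_two]; exact h))
    exact congrArg Subtype.val (orderOf_eq_one_iff.mp
      (Nat.eq_one_of_dvd_coprimes (Nat.coprime_two_left.mpr hodd) h2 (orderOf_dvd_natCard _)))
  haveI : Fact (Nat.Prime 2) := ⟨Nat.prime_two⟩
  haveI : CharP F 2 := ringChar.of_eq (FiniteField.even_card_iff_char_two.2 (Nat.even_iff.1 he))
  let L := AlgebraicClosure F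
  haveI : CharP L 2 := charP_of_injective_algebraMap (algebraMap F L).injective 2
  obtain ⟨Φ, hΦ⟩ := exists_frob (F := F) (L := L) 2
  have hle : Subgroup.zpowers c ≤ A := (Subgroup.zpowers_le).2 hc0
  obtain ⟨x, y, e, hp, -, hH⟩ := exists_pair_of_normalized (ι := algebraMap F L) hΦ 2
    (C := Subgroup.zpowers c) (H := A)
    (fun h => hc1 (Subtype.ext (Subgroup.zpowers_eq_bot.1 h)))
    (fun a ha h => hsq a (hle ha) (by rwa [pow_two] at h))
    (fun h hh a ha => by rwa [hc h hh a (hle ha), mul_inv_cancel_right])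
  have hfix : A ≤ fixStab (algebraMap F L) x y := by
    intro a ha
    rcases hH ha with h | ⟨h1, h2⟩
    · exact h
    · have := hsq a ha (mul_self_eq_one_of_swap hp.1 h1 h2)
      subst this
      exact one_mem _
  haveI := isCyclic_fixStab (ι := algebraMap F L) hp.1
  exact isCyclic_of_injective (Subgroup.inclusion hfix) (Subgroup.inclusion_injective hfix)

end CfsgLib.LocalEven.TICount
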