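import Cfsg.Agent.Lib.LocalEven.TICount.Count
import Cfsg.Agent.Lib.LocalEven.TICount.CyclicPGL
import Cfsg.Agent.Lib.PermSmall.Recognition
import Cfsg.Agent.Lib.PSL2.Basic

/-!
TI-subgroups with many involutions: `|M| = q + 1`, `q` the order of `C(z)`, gives `PSL₂(q)`.
-/

set_option autoImplicit false

namespace CfsgLib.LocalEven.TICount

open MulAction
open CfsgLib.PermSmall.Zassenhaus (pairStab)

variable {G : Type*} [Group G] [Finite G]

namespace Hyp

variable {M : Subgroup G} {z : G}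

local notation "N" => Subgroup.normalizer (M : Set G)
local notation "K" => Kz M z

variable (H : Hyp M z)
include H

/-- The linear case. -/
theorem linear_case (hk : Nat.card K = 2) {p : ℕ} (hp : 1 ≤ p)
    (hC : Nat.card (Subgroup.centralizer ({z} : Set G)) = 2 * 2 ^ p)
    (hm : Nat.card M = 2 * 2 ^ p + 1) :
    ∃ (F : Type) (_ : Field F) (_ : Fintype F) (e : ℕ), 1 < e ∧ Fintype.card F = 2 ^ e ∧
      IsCyclic M ∧ Nat.card M = 2 ^ e + 1 ∧
      Nonempty (G ≃* Matrix.ProjectiveSpecialLinearGroup (Fin 2) F) := by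
  classical
  haveI : Fact (Nat.Prime 2) := ⟨Nat.prime_two⟩
  set q := 2 * 2 ^ p with hqdef
  have hq : 4 ≤ q := by
    have : 2 ≤ 2 ^ p := le_trans (by norm_num) (Nat.pow_le_pow_right two_pos hp)
    omega
  have hqe : q = 2 ^ (p + 1) := by rw [hqdef, pow_succ']
  have hsqz := (H.two_case hk).1
  have hcc := H.card_cent
  rw [hk, hC] at hcc
  have hc : Nat.card (OuterCent M z) = q - 2 := by omega
  have hG : Nat.card G = q * ((q - 1) * (q + 1)) := by
    rw [H.card_G, hk, hm, hc]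
    zify [show 2 ≤ q by omega, show 1 ≤ q by omega]
    ring
  have hinv : Nat.card {g : G // orderOf g = 2} = (q + 1) * (q - 1) := by
    rw [H.card_inv, H.card_outer, hm, hc]
    zify [show 2 ≤ q by omega, show 1 ≤ q by omega]
    ring
  -- centralizers of involutions
  have hconj : ∀ v : G, orderOf v = 2 →
      Nat.card (Subgroup.centralizer ({v} : Set G)) = q ∧ ∀ c, Commute c v → c * c = 1 := by
    intro v hv
    obtain ⟨g, rfl⟩ := H.all_conj (by omega) hv
    refine ⟨?_, fun c hc => ?_⟩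
    · rw [← hC]
      refine Nat.card_congr (Equiv.subtypeEquiv (MulAut.conj g⁻¹).toEquiv fun c => ?_)
      simp only [Subgroup.mem_centralizer_singleton_iff, MulEquiv.toEquiv_eq_coe, EquivLike.coe_coe,
        MulAut.conj_apply, inv_inv]
      constructor
      · intro h
        calc g⁻¹ * c * g * z = g⁻¹ * (c * (g * z * g⁻¹)) * g := by group
          _ = g⁻¹ * (g * z * g⁻¹ * c) * g := by rw [h]
          _ = z * (g⁻¹ * c * g) := by group
      · intro h
        calc c * (g * z * g⁻¹) = g * (g⁻¹ * c * g * z) * g⁻¹ := by group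
          _ = g * (z * (g⁻¹ * c * g)) * g⁻¹ := by rw [h]
          _ = g * z * g⁻¹ * c := by group
    · have h1 : Commute (g⁻¹ * c * g) z := by
        show g⁻¹ * c * g * z = z * (g⁻¹ * c * g)
        calc g⁻¹ * c * g * z = g⁻¹ * (c * (g * z * g⁻¹)) * g := by group
          _ = g⁻¹ * (g * z * g⁻¹ * c) * g := by rw [hc.eq]
          _ = z * (g⁻¹ * c * g) := by group
      have h2 := hsqz _ h1
      calc c * c = g * (g⁻¹ * c * g * (g⁻¹ * c * g)) * g⁻¹ := by group
        _ = 1 := by rw [h2, mul_one, mul_inv_cancel]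
  have hodd1 : ¬ 2 ∣ (q - 1) * (q + 1) := by
    rw [Nat.prime_two.dvd_mul]
    omega
  have hcopq : ∀ i, (2 ^ i).Coprime ((q - 1) * (q + 1)) := fun i =>
    Nat.Coprime.pow_left _ ((Nat.prime_two.coprime_iff_not_dvd).2 hodd1)
  have hfac : 2 ^ (Nat.card G).factorization 2 = q := by
    have hne : (q - 1) * (q + 1) ≠ 0 := fun e => hodd1 (e ▸ dvd_zero 2)
    rw [hG, Nat.factorization_mul (by omega) hne, Finsupp.add_apply,
      Nat.factorization_eq_zero_of_not_dvd hodd1, add_zero, hqe,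
      Nat.Prime.factorization_pow Nat.prime_two, Finsupp.single_eq_same]
  obtain ⟨S₀, hS₀⟩ : ∃ S₀ : Sylow 2 G, (S₀ : Subgroup G) = Subgroup.centralizer ({z} : Set G) :=
    ⟨Sylow.ofCard _ (hC.trans hfac.symm), rfl⟩
  have hcardP : ∀ P : Sylow 2 G, Nat.card (P : Subgroup G) = q := fun P => by
    rw [P.card_eq_multiplicity, hfac]
  have hPsq : ∀ (P : Sylow 2 G), ∀ x ∈ (P : Subgroup G), x * x = 1 := by
    intro P x hx
    obtain ⟨g, rfl⟩ := MulAction.exists_smul_eq G S₀ P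
    rw [Sylow.coe_subgroup_smul, Subgroup.mem_pointwise_smul_iff_inv_smul_mem, hS₀,
      Subgroup.mem_centralizer_singleton_iff] at hx
    have h2 := hsqz _ hx
    rw [show ((MulAut.conj g)⁻¹ • x : G) = g⁻¹ * x * g by simp] at h2
    calc x * x = g * (g⁻¹ * x * g * (g⁻¹ * x * g)) * g⁻¹ := by group
      _ = 1 := by rw [h2, mul_one, mul_inv_cancel]
  have hPcomm : ∀ (P : Sylow 2 G), ∀ x ∈ (P : Subgroup G), ∀ y ∈ (P : Subgroup G), x * y = y * x := by
    intro P x hx y hy
    calc x * y = (x * y)⁻¹ := eq_inv_of_mul_eq_one_left (hPsq P _ (mul_mem hx hy))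
      _ = y⁻¹ * x⁻¹ := mul_inv_rev x y
      _ = y * x := by
        rw [inv_eq_of_mul_eq_one_right (hPsq P _ hx), inv_eq_of_mul_eq_one_right (hPsq P _ hy)]
  have hPeq : ∀ (P : Sylow 2 G), ∀ v ∈ (P : Subgroup G), v ≠ 1 →
      (P : Subgroup G) = Subgroup.centralizer ({v} : Set G) := by
    intro P v hv hv1
    refine Subgroup.eq_of_le_of_card_ge (fun x hx => ?_)
      (le_of_eq ((hconj v (two_of (hPsq P v hv) hv1)).1.trans (hcardP P).symm))
    exact Subgroup.mem_centralizer_singleton_iff.2 (hPcomm P x hx v hv)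
  have hTI : ∀ (P Q : Sylow 2 G), ∀ v, v ∈ (P : Subgroup G) → v ∈ (Q : Subgroup G) → v ≠ 1 → P = Q :=
    fun P Q v hP hQ hv => Sylow.ext ((hPeq P v hP hv).trans (hPeq Q v hQ hv).symm)
  have hex : ∀ v : G, orderOf v = 2 → ∃ P : Sylow 2 G, v ∈ (P : Subgroup G) := fun v hv =>
    ⟨Sylow.ofCard _ ((hconj v hv).1.trans hfac.symm),
      Subgroup.mem_centralizer_singleton_iff.2 rfl⟩
  haveI : Fintype (Sylow 2 G) := Fintype.ofFinite _
  have hΩ : Fintype.card (Sylow 2 G) = q + 1 := by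
    have h1 : Nat.card {g : G // orderOf g = 2} =
        Nat.card (Σ P : Sylow 2 G, {v : ↥(P : Subgroup G) // v ≠ 1}) := by
      refine (Nat.card_congr (Equiv.ofBijective (fun s : Σ P : Sylow 2 G,
        {v : ↥(P : Subgroup G) // v ≠ 1} => (⟨((s.2 : ↥(s.1 : Subgroup G)) : G),
          two_of (hPsq s.1 _ (s.2 : ↥(s.1 : Subgroup G)).2) (fun e => s.2.2 (Subtype.ext e))⟩ :
            {g : G // orderOf g = 2})) ⟨?_, ?_⟩)).symm
      · rintro ⟨P, ⟨v, hv⟩, hv1⟩ ⟨Q, ⟨w, hw⟩, hw1⟩ e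
        have e' : v = w := congrArg Subtype.val e
        subst e'
        obtain rfl := hTI P Q v hv hw (fun e1 => hv1 (Subtype.ext e1))
        rfl
      · rintro ⟨v, hv⟩
        obtain ⟨P, hP⟩ := hex v hv
        exact ⟨⟨P, ⟨v, hP⟩, fun e => ne_one_of hv (congrArg Subtype.val e)⟩, rfl⟩
    have h2 : ∀ P : Sylow 2 G, Nat.card {v : ↥(P : Subgroup G) // v ≠ 1} = q - 1 := by
      intro P
      haveI := Fintype.ofFinite ↥(P : Subgroup G)
      rw [Nat.card_eq_fintype_card, Fintype.card_subtype_compl, Fintype.card_subtype_eq,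
        ← Nat.card_eq_fintype_card, hcardP P]
    rw [Nat.card_sigma, Finset.sum_congr rfl (fun P _ => h2 P), Finset.sum_const, Finset.card_univ,
      smul_eq_mul, hinv] at h1
    exact (Nat.eq_of_mul_eq_mul_right (by omega) h1).symm
  -- the action on the Sylow 2-subgroups
  set T := (S₀ : Subgroup G) with hT
  have hTle : T ≤ stabilizer G S₀ := fun t ht =>
    Sylow.smul_eq_iff_mem_normalizer.2 (Subgroup.le_normalizer ht)
  have hsemi : ∀ t ∈ T, ∀ P : Sylow 2 G, t • P = P → P ≠ S₀ → t = 1 := by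
    intro t ht P htP hP
    by_contra h1
    have hz' : IsPGroup 2 (Subgroup.zpowers t) := S₀.2.to_le (Subgroup.zpowers_le.2 ht)
    have h2 : t ∈ Subgroup.zpowers t ⊓ Subgroup.normalizer ((P : Subgroup G) : Set G) :=
      ⟨Subgroup.mem_zpowers t, Sylow.smul_eq_iff_mem_normalizer.1 htP⟩
    exact hP (hTI P S₀ t ((hz'.inf_normalizer_sylow P).le h2).2 ht h1)
  obtain ⟨b, hb⟩ : ∃ b : Sylow 2 G, b ≠ S₀ := by
    haveI : Nontrivial (Sylow 2 G) := Fintype.one_lt_card_iff_nontrivial.1 (by omega)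
    exact exists_ne S₀
  have hne : ∀ t ∈ T, ∀ P : Sylow 2 G, P ≠ S₀ → t • P ≠ S₀ := fun t ht P hP e =>
    hP (smul_left_cancel t (e.trans (hTle ht).symm))
  have hsurj : ∀ P : Sylow 2 G, P ≠ S₀ → ∃ t : T, (t : G) • b = P := by
    let f : T → {P : Sylow 2 G // P ≠ S₀} := fun t => ⟨(t : G) • b, hne t t.2 b hb⟩
    have hfi : Function.Injective f := by
      intro s t e
      have e' : (s : G) • b = (t : G) • b := congrArg Subtype.val e
      have := hsemi _ (mul_mem (inv_mem t.2) s.2) b (by rw [mul_smul, e', inv_smul_smul]) hb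
      exact Subtype.ext (inv_mul_eq_one.mp this).symm
    have hcard : Nat.card T = Nat.card {P : Sylow 2 G // P ≠ S₀} := by
      rw [hcardP, Nat.card_eq_fintype_card, Fintype.card_subtype_compl, Fintype.card_subtype_eq, hΩ,
        Nat.add_sub_cancel]
    intro P hP
    obtain ⟨t, ht⟩ := ((Nat.bijective_iff_injective_and_card f).2 ⟨hfi, hcard⟩).2 ⟨P, hP⟩
    exact ⟨t, congrArg Subtype.val ht⟩
  have hreg : ∀ y w : Sylow 2 G, y ≠ S₀ → w ≠ S₀ → ∃! t : T, (t : G) • y = w := by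
    intro y w hy hw
    obtain ⟨s, rfl⟩ := hsurj y hy
    obtain ⟨t, rfl⟩ := hsurj w hw
    refine ⟨t * s⁻¹, ?_, fun v hv => ?_⟩
    · show ((t * s⁻¹ : T) : G) • (s : G) • b = _
      rw [Subgroup.coe_mul, Subgroup.coe_inv, mul_smul, inv_smul_smul]
    · have e' : ((v * s : T) : G) • b = (t : G) • b := by
        rw [Subgroup.coe_mul, mul_smul]; exact hv
      have h1 := hsemi _ (mul_mem (inv_mem t.2) (v * s).2) b (by
        rw [mul_smul, e', inv_smul_smul]) hb
      exact eq_mul_inv_of_mul_eq (Subtype.ext (inv_mul_eq_one.mp h1).symm)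
  have hFn : (T.subgroupOf (stabilizer G S₀)).Normal := by
    refine ⟨fun x hx g => ?_⟩
    exact (Subgroup.mem_normalizer_iff.1 (Sylow.smul_eq_iff_mem_normalizer.1 g.2) _).1 hx
  have hFc : IsMulCommutative T := ⟨⟨fun x y => Subtype.ext (hPcomm S₀ x x.2 y y.2)⟩⟩
  set D := pairStab G S₀ b with hD
  have hstab : Nat.card (stabilizer G S₀) = q * (q - 1) := by
    have h := (stabilizer G S₀).card_mul_index
    rw [MulAction.index_stabilizer_of_transitive G S₀, Nat.card_eq_fintype_card (α := Sylow 2 G),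
      hΩ, hG] at h
    refine Nat.eq_of_mul_eq_mul_right (show 0 < q + 1 by omega) (h.trans ?_)
    ring
  have hcardD : Nat.card D = q - 1 := by
    have h1 : Nat.card (T × D) = Nat.card (stabilizer G S₀) := by
      refine Nat.card_congr (Equiv.ofBijective (fun p : T × D =>
        (⟨(p.1 : G) * p.2, mul_mem (hTle p.1.2) p.2.2.1⟩ : stabilizer G S₀)) ⟨?_, ?_⟩)
      · intro x y e
        have e' : (x.1 : G) * x.2 = y.1 * y.2 := congrArg Subtype.val e
        have e2 : ((y.1 : G)⁻¹ * x.1) • b = b := by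
          rw [show (y.1 : G)⁻¹ * x.1 = y.2 * (x.2 : G)⁻¹ by
            calc (y.1 : G)⁻¹ * x.1 = (y.1 : G)⁻¹ * ((x.1 : G) * x.2) * (x.2 : G)⁻¹ := by group
              _ = _ := by rw [e']; group, mul_smul, inv_smul_eq_iff.2 x.2.2.2.symm]
          exact y.2.2.2
        have h3 : (x.1 : G) = y.1 :=
          (inv_mul_eq_one.mp (hsemi _ (mul_mem (inv_mem y.1.2) x.1.2) b e2 hb)).symm
        refine Prod.ext (Subtype.ext h3) (Subtype.ext ?_)
        rw [h3] at e'
        exact mul_left_cancel e'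
      · rintro ⟨g, hg⟩
        obtain ⟨t, ht⟩ := hsurj (g • b) (fun e => hb (smul_left_cancel g (e.trans hg.symm)))
        refine ⟨(t, ⟨(t : G)⁻¹ * g, CfsgLib.PermSmall.Zassenhaus.mem_pairStab.2 ⟨?_, ?_⟩⟩),
          Subtype.ext ?_⟩
        · rw [mul_smul, hg, inv_smul_eq_iff, hTle t.2]
        · rw [mul_smul, ← ht, inv_smul_smul]
        · show (t : G) * ((t : G)⁻¹ * g) = g
          group
    rw [Nat.card_prod, hcardP, hstab] at h1
    exact Nat.eq_of_mul_eq_mul_left (by omega) h1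
  have hpowD : ∀ g ∈ D, g ^ (q - 1) = 1 := by
    intro g hg
    rw [← hcardD]
    exact congrArg Subtype.val (pow_card_eq_one' (G := D) (x := ⟨g, hg⟩))
  have hDfpf : ∀ g ∈ D, ∀ t ∈ T, t ≠ 1 → Commute g t → g = 1 := by
    intro g hg t ht ht1 hc
    refine hsemi g ?_ b (CfsgLib.PermSmall.Zassenhaus.mem_pairStab.1 hg).2 hb
    rw [hT, hPeq S₀ t ht ht1]
    exact Subgroup.mem_centralizer_singleton_iff.2 hc
  have hDT : ∀ g ∈ D, ∀ t ∈ T, g * t * g⁻¹ ∈ T := fun g hg t ht =>
    (Subgroup.mem_normalizer_iff.1 (Sylow.smul_eq_iff_mem_normalizer.1 hg.1) t).1 ht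
  have hirr : ∀ A : Subgroup G, A ≤ T → (∀ g ∈ D, ∀ v ∈ A, g * v * g⁻¹ ∈ A) →
      (∃ v ∈ A, v ≠ 1) → A = T := by
    intro A hA hAD ⟨v, hv, hv1⟩
    refine le_antisymm hA fun w hw => ?_
    by_cases hw1 : w = 1
    · rw [hw1]; exact one_mem A
    haveI := Fintype.ofFinite T
    let f : D → {x : T // x ≠ 1} := fun g =>
      ⟨⟨(g : G) * v * (g : G)⁻¹, hDT g g.2 v (hA hv)⟩,
        fun e => hv1 (conj_eq_one_iff.mp (congrArg Subtype.val e))⟩
    have hfi : Function.Injective f := by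
      intro k l e
      have e' : (k : G) * v * (k : G)⁻¹ = (l : G) * v * (l : G)⁻¹ :=
        congrArg (fun w : {x : T // x ≠ 1} => ((w : T) : G)) e
      have h1 := hDfpf _ (mul_mem (inv_mem l.2) k.2) v (hA hv) hv1 (by
        show (l : G)⁻¹ * k * v = v * ((l : G)⁻¹ * k)
        calc (l : G)⁻¹ * k * v = (l : G)⁻¹ * ((k : G) * v * (k : G)⁻¹) * k := by group
          _ = (l : G)⁻¹ * ((l : G) * v * (l : G)⁻¹) * k := by rw [e']
          _ = _ := by group)
      exact Subtype.ext (inv_mul_eq_one.mp h1).symm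
    have hcard : Nat.card D = Nat.card {x : T // x ≠ 1} := by
      rw [hcardD, Nat.card_eq_fintype_card, Fintype.card_subtype_compl, Fintype.card_subtype_eq,
        ← Nat.card_eq_fintype_card, hcardP]
    obtain ⟨g, hg⟩ := ((Nat.bijective_iff_injective_and_card f).2 ⟨hfi, hcard⟩).2
      ⟨⟨w, hw⟩, fun e => hw1 (congrArg Subtype.val e)⟩
    have e : (g : G) * v * (g : G)⁻¹ = w :=
      congrArg (fun w : {x : T // x ≠ 1} => ((w : T) : G)) hg
    exact e ▸ hAD g g.2 v hv
  -- the swapping involution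
  obtain ⟨g₁, hg₁⟩ := MulAction.exists_smul_eq G S₀ b
  obtain ⟨t₁, ht₁⟩ := hsurj (g₁⁻¹ • S₀) (fun e => hb (by
    rw [← hg₁]; exact (eq_inv_smul_iff.1 e.symm)))
  have hwa : (g₁ * t₁) • S₀ = b := by rw [mul_smul, hTle t₁.2, hg₁]
  have hwb : (g₁ * t₁) • b = S₀ := by rw [mul_smul, ht₁, smul_inv_smul]
  set w := g₁ * (t₁ : G) with hwdef
  have hw2 : w * w ∈ D := CfsgLib.PermSmall.Zassenhaus.mem_pairStab.2
    ⟨by rw [mul_smul, hwa, hwb], by rw [mul_smul, hwb, hwa]⟩
  obtain ⟨i, hi⟩ : ∃ i, q - 1 = 2 * i + 1 := ⟨q / 2 - 1, by omega⟩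
  set s := (w * w) ^ i * w with hsdef
  have hDi := CfsgLib.PermSmall.Zassenhaus.mem_pairStab.1 (pow_mem hw2 i)
  have hsa : s • S₀ = b := by rw [hsdef, mul_smul, hwa, hDi.2]
  have hsb : s • b = S₀ := by rw [hsdef, mul_smul, hwb, hDi.1]
  have hss : s * s = 1 := by
    have e : s = w ^ (q - 1) := by rw [hsdef, hi, pow_succ, pow_mul, pow_two]
    rw [e, ← (Commute.refl w).mul_pow]
    exact hpowD _ hw2
  clear_value s
  have hs2 : orderOf s = 2 := two_of hss fun e => hb (by rw [← hsa, e, one_smul])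
  have hsi : s⁻¹ = s := inv_of hs2
  obtain ⟨c, hc'⟩ := hex s hs2
  have hsc : s • c = c := Sylow.smul_eq_iff_mem_normalizer.2 (Subgroup.le_normalizer hc')
  have hac : S₀ ≠ c := fun e => hb (by rw [← hsa, e, hsc])
  have hbc : b ≠ c := fun e => hb (by rw [← hsb, e, hsc])
  have hconjD : ∀ h ∈ D, s * h * s⁻¹ ∈ D := by
    intro h hh
    have := CfsgLib.PermSmall.Zassenhaus.conj_mem_pairStab (g := s) hh
    rw [hsa, hsb] at this
    exact ⟨this.2, this.1⟩
  let φ : D →* D :=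
    { toFun := fun h => ⟨s * (h : G) * s⁻¹, hconjD h h.2⟩
      map_one' := Subtype.ext (by simp)
      map_mul' := fun h k => Subtype.ext (by simp) }
  have hfpf : MonoidHom.FixedPointFree φ := by
    intro h hh
    have hcomm : Commute (h : G) s := (mul_inv_eq_iff_eq_mul.mp (congrArg Subtype.val hh)).symm
    refine Subtype.ext ?_
    have h1 := (hconj s hs2).2 _ hcomm
    have h2 := hpowD _ h.2
    rw [hi, pow_succ, pow_mul, pow_two, h1, one_pow, one_mul] at h2
    exact h2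
  have hinvol : Function.Involutive φ := by
    intro h
    apply Subtype.ext
    show s * (s * (h : G) * s⁻¹) * s⁻¹ = h
    rw [hsi, ← mul_assoc, ← mul_assoc, hss, one_mul, mul_assoc, hss, mul_one]
  have hDinv : ∀ h ∈ D, s * h * s⁻¹ = h⁻¹ := fun h hh =>
    congrArg Subtype.val (congrFun (hfpf.coe_eq_inv_of_involutive hinvol) ⟨h, hh⟩)
  have hDc : IsMulCommutative D := ⟨⟨fun g k => hfpf.commute_all_of_involutive hinvol g k⟩⟩
  have hthree : ∀ P : Sylow 2 G, P ≠ S₀ → P ≠ b → ∀ g : G, g • S₀ = S₀ → g • b = b → g • P = P →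
      g = 1 := by
    intro P hP hPb g h1 h2 h3
    obtain ⟨t, rfl⟩ := hsurj P hP
    have hgD : g ∈ D := CfsgLib.PermSmall.Zassenhaus.mem_pairStab.2 ⟨h1, h2⟩
    have ht1 : (t : G) ≠ 1 := fun e => hPb (by rw [e, one_smul])
    refine hDfpf g hgD t t.2 ht1 ?_
    have h4 := hsemi _ (mul_mem (inv_mem t.2) (hDT g hgD t t.2)) b (by
      rw [mul_smul, mul_smul, mul_smul, inv_smul_eq_iff.2 h2.symm, h3, inv_smul_smul]) hb
    exact mul_inv_eq_iff_eq_mul.mp (inv_mul_eq_one.mp h4).symm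
  haveI : FaithfulSMul G (Sylow 2 G) := ⟨fun {g₁ g₂} h => inv_mul_eq_one.mp
    (hthree c hac.symm hbc.symm _ (by rw [mul_smul, inv_smul_eq_iff, h])
      (by rw [mul_smul, inv_smul_eq_iff, h]) (by rw [mul_smul, inv_smul_eq_iff, h]))⟩
  obtain ⟨F, iF, iT, hF, ⟨e⟩⟩ := CfsgLib.PermSmall.Recognition.pgl_of_inverted (Ne.symm hb) hac hbc
    (hthree c hac.symm hbc.symm) T hTle hFn hFc hreg hDc hirr
    (by rw [hΩ]; exact hcardD.trans (by omega)) s hsa hsb hsc hDinv
  have hFq : Fintype.card F = 2 ^ (p + 1) := by rw [hF, hΩ, ← hqe]; omega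
  have heven : Even (Fintype.card F) := by
    rw [hFq]; exact Nat.even_pow.2 ⟨even_two, by omega⟩
  refine ⟨F, iF, iT, p + 1, by omega, hFq, ?_, by rw [hm, hqe], ?_⟩
  · haveI := isCyclic_of_comm_odd heven (M.map e.toMonoidHom) (by
        rintro _ ⟨a, ha, rfl⟩ _ ⟨b', hb', rfl⟩
        rw [← map_mul, ← map_mul, (H.comm_M ha hb').eq])
      (by rw [Subgroup.card_map_of_injective e.injective]; exact H.odd_M)
    exact isCyclic_of_injective (M.equivMapOfInjective e.toMonoidHom e.injective).toMonoidHom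
      (M.equivMapOfInjective e.toMonoidHom e.injective).injective
  · have hbij : Function.Bijective
        (Matrix.ProjectiveSpecialLinearGroup.toPGL : _ →* Matrix.ProjGenLinGroup (Fin 2) F) := by
      refine ⟨Matrix.ProjectiveSpecialLinearGroup.toPGL_injective, fun x => ?_⟩
      have h : x ∈ CfsgLib.PSL2.pslImage F := by
        rw [CfsgLib.PSL2.pslImage_eq_top_of_even heven]; exact Subgroup.mem_top x
      rw [← CfsgLib.PSL2.range_toPGL] at h
      exact h
    exact ⟨e.trans (MulEquiv.ofBijective _ hbij).symm⟩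

end Hyp

end CfsgLib.LocalEven.TICount
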