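import Cfsg.Prelude.Def_Transfer
import Cfsg.Agent.Lib.LocalEven.TICount.Count
import Cfsg.Agent.Lib.PermSmall.Recognition

/-!
TI-subgroups with many involutions: complements of order above two give `PGL₂(q)` and `PSL₂(q)`.
-/

set_option autoImplicit false

namespace CfsgLib.LocalEven.TICount

open MulAction
open CfsgLib.PermSmall.Zassenhaus (pairStab)

variable {G : Type*} [Group G] [Finite G]

namespace Hyp

variable {M : Subgroup G} {z : G}

local notation "N" => Subgroup.normalizer (M : Set G)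
local notation "K" => Kz M z

variable (H : Hyp M z)
include H

/-- For `|M| ≤ 2|K| + 1`, `K` acts irreducibly on `M`. -/
theorem irreducible (hle : Nat.card M ≤ 2 * Nat.card K + 1) {A : Subgroup G} (hA : A ≤ M)
    (hinv : ∀ k ∈ K, ∀ x ∈ A, k * x * k⁻¹ ∈ A) (hA1 : A ≠ ⊥) : A = M := by
  by_contra hne
  have h1 := (Subgroup.one_lt_card_iff_ne_bot A).2 hA1
  have h2 := Nat.le_of_dvd (by omega) (H.card_K_dvd_of hA hinv)
  obtain ⟨t, ht⟩ := Subgroup.card_dvd_of_le hA
  have hodd : ¬ 2 ∣ Nat.card M := by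
    rw [← even_iff_two_dvd, Nat.not_even_iff_odd]; exact H.odd_M
  have ht0 : t ≠ 0 := fun e => by rw [e, mul_zero] at ht; exact Nat.card_pos.ne' ht
  have ht1 : t ≠ 1 := fun e =>
    hne (Subgroup.eq_of_le_of_card_ge hA (by rw [ht, e, mul_one]))
  have ht2 : t ≠ 2 := fun e => hodd ⟨Nat.card A, by rw [ht, e, mul_comm]⟩
  have := Nat.mul_le_mul_left (Nat.card A) (show 3 ≤ t by omega)
  omega

/-- For `|M| ≤ 2|K| + 1`, `M` is elementary abelian. -/
theorem elementary (hle : Nat.card M ≤ 2 * Nat.card K + 1) {p : ℕ} [hp : Fact p.Prime]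
    (hpM : p ∣ Nat.card M) : Cfsg.IsElementaryAbelian p M := by
  refine ⟨⟨⟨fun a b => Subtype.ext (H.comm_M a.2 b.2).eq⟩⟩, fun a ha => ?_⟩
  let A : Subgroup G :=
    { carrier := {x | x ∈ M ∧ x ^ p = 1}
      one_mem' := ⟨one_mem _, one_pow _⟩
      mul_mem' := fun {x y} hx hy =>
        ⟨mul_mem hx.1 hy.1, by rw [(H.comm_M hx.1 hy.1).mul_pow, hx.2, hy.2, one_mul]⟩
      inv_mem' := fun {x} hx => ⟨inv_mem hx.1, by rw [inv_pow, hx.2, inv_one]⟩ }
  have hA1 : A ≠ ⊥ := by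
    obtain ⟨⟨x, hx⟩, hxp⟩ := exists_prime_orderOf_dvd_card' p hpM
    rw [Subgroup.orderOf_mk] at hxp
    intro e
    have hxA : x ∈ A := ⟨hx, hxp ▸ pow_orderOf_eq_one x⟩
    rw [e, Subgroup.mem_bot] at hxA
    rw [hxA, orderOf_one] at hxp
    exact hp.out.ne_one hxp.symm
  have h := H.irreducible hle (A := A) (fun x hx => hx.1) (fun k hk x hx =>
    ⟨conj_mem (mem_K.1 hk).1 hx.1, by rw [conj_pow, hx.2, mul_one, mul_inv_cancel]⟩) hA1
  exact (h.symm ▸ ha : a ∈ A).2

/-- A complement of order above two. -/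
theorem of_card_K_ne_two (hk : Nat.card K ≠ 2) :
    ∃ (F : Type) (_ : Field F) (_ : Fintype F) (p : ℕ) (_ : Fact p.Prime) (_ : CharP F p),
      Fintype.card F = Nat.card M ∧ Cfsg.IsElementaryAbelian p M ∧
        (Nonempty (G ≃* (GL (Fin 2) F ⧸ Subgroup.center (GL (Fin 2) F))) ∨
         (Fintype.card F % 4 = 1 ∧
          Nonempty (G ≃* Matrix.ProjectiveSpecialLinearGroup (Fin 2) F))) := by
  classical
  haveI : Fintype (G ⧸ N) := Fintype.ofFinite _
  obtain ⟨u, hu, huN, huz⟩ := H.exists_swap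
  have hc := H.outerCent_eq hk
  have hle : Nat.card M ≤ 2 * Nat.card K + 1 := by have := H.card_M_le; omega
  obtain ⟨t, ht⟩ := H.card_K_dvd
  have hm1 := H.one_lt_card_M
  have ht2 : t = 1 ∨ t = 2 := by
    have h0 : t ≠ 0 := fun e => by rw [e, mul_zero] at ht; omega
    by_contra h
    have := Nat.mul_le_mul_left (Nat.card K) (show 3 ≤ t by omega)
    have : 0 < Nat.card K := Nat.card_pos
    omega
  set a : G ⧸ N := QuotientGroup.mk (1 : G) with ha
  set b : G ⧸ N := QuotientGroup.mk u with hb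
  have hga : ∀ g : G, g • a = a ↔ g ∈ N := fun g => by
    rw [ha, MulAction.Quotient.smul_mk, QuotientGroup.eq, smul_eq_mul, mul_one, mul_one, inv_mem_iff]
  have hgb : ∀ g : G, g • b = b ↔ u⁻¹ * g * u ∈ N := fun g => by
    rw [hb, MulAction.Quotient.smul_mk, QuotientGroup.eq, smul_eq_mul,
      show (g * u)⁻¹ * u = (u⁻¹ * g * u)⁻¹ by group, inv_mem_iff]
  have hab : a ≠ b := fun e => huN (by simpa using QuotientGroup.eq.1 e)
  have hstabK : pairStab G a b = K := by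
    ext g
    rw [CfsgLib.PermSmall.Zassenhaus.mem_pairStab, hga, hgb, inv_of hu, mem_K]
    refine ⟨fun h => ⟨h.1, H.inverted_comm hu huN h.1 h.2 H.znorm ?_⟩,
      fun h => ⟨h.1, ?_⟩⟩
    · rw [huz.eq, mul_assoc, mul_self_of hu, mul_one]; exact H.znorm
    · rw [H.K_inverted hu huN huz (mem_K.2 h)]; exact inv_mem h.1
  have hFle : M ≤ stabilizer G a := fun x hx => (hga x).2 (M_le hx)
  have hFn : (M.subgroupOf (stabilizer G a)).Normal :=
    ⟨fun x hx g => conj_mem (M := M) (n := (g : G)) (x := (x : G)) ((hga g).1 g.2) hx⟩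
  have hFc : IsMulCommutative M := ⟨⟨fun x y => Subtype.ext (H.comm_M x.2 y.2).eq⟩⟩
  have htrans : ∀ w : G ⧸ N, w ≠ a → ∃ x : M, (x : G) • b = w := by
    intro w hw
    induction w using QuotientGroup.induction_on with | H g => ?_
    obtain ⟨x, hx, hxg⟩ := H.one_orbit hk hu huN huz (g := g)
      (fun h => hw (QuotientGroup.eq.2 (by simpa using h)))
    exact ⟨⟨x, hx⟩, QuotientGroup.eq.2 hxg⟩
  have hsemi : ∀ x y : M, (x : G) • b = (y : G) • b → x = y := by
    intro x y e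
    have e' : ((y : G)⁻¹ * x) • b = b := by rw [mul_smul, e, inv_smul_smul]
    have h1 := H.semireg huN (mul_mem (inv_mem y.2) x.2) ((hgb _).1 e')
    exact Subtype.ext (inv_mul_eq_one.mp h1).symm
  have hne : ∀ x : M, (x : G) • b ≠ a := fun x e =>
    hab (smul_left_cancel (x : G) ((hFle x.2).trans e.symm))
  have hreg : ∀ y w : G ⧸ N, y ≠ a → w ≠ a → ∃! x : M, (x : G) • y = w := by
    intro y w hy hw
    obtain ⟨x, rfl⟩ := htrans y hy
    obtain ⟨x', rfl⟩ := htrans w hw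
    refine ⟨x' * x⁻¹, ?_, fun v hv => ?_⟩
    · show ((x' * x⁻¹ : M) : G) • (x : G) • b = _
      rw [Subgroup.coe_mul, Subgroup.coe_inv, mul_smul, inv_smul_smul]
    · have h1 : v * x = x' := hsemi (v * x) x' (by rw [Subgroup.coe_mul, mul_smul]; exact hv)
      exact eq_mul_inv_of_mul_eq h1
  have hcardΩ : Fintype.card (G ⧸ N) = Nat.card M + 1 := by
    rw [← Nat.card_eq_fintype_card]
    change (N).index = _
    have h1 := H.index_eq
    rw [← H.card_outer_add, H.card_outer, hc] at h1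
    refine (Nat.eq_of_mul_eq_mul_right (Nat.card_pos (α := K)) ?_)
    rw [← h1]; ring
  have hthree : ∀ x : M, x ≠ 1 → ∀ g : G, g • a = a → g • b = b →
      g • (x : G) • b = (x : G) • b → g = 1 := by
    intro x hx g hga' hgb' hgc
    have hgK : g ∈ K := hstabK ▸ CfsgLib.PermSmall.Zassenhaus.mem_pairStab.2 ⟨hga', hgb'⟩
    by_contra hg
    have h1 : (⟨g * x * g⁻¹, conj_mem (mem_K.1 hgK).1 x.2⟩ : M) = x := by
      apply hsemi
      show (g * (x : G) * g⁻¹) • b = _
      rw [mul_smul, mul_smul, show g⁻¹ • b = b from inv_smul_eq_iff.2 hgb'.symm, hgc]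
    exact hx (Subtype.ext (H.fpf hgK hg x.2
      (mul_inv_eq_iff_eq_mul.mp (congrArg Subtype.val h1))))
  obtain ⟨⟨x₁, hx₁⟩, hx₁'⟩ := M.ne_bot_iff_exists_ne_one.1 H.hne
  haveI : FaithfulSMul G (G ⧸ N) := ⟨fun {g₁ g₂} h => inv_mul_eq_one.mp (hthree ⟨x₁, hx₁⟩ hx₁'
    _ (by rw [mul_smul, inv_smul_eq_iff, h]) (by rw [mul_smul, inv_smul_eq_iff, h])
    (by rw [mul_smul g₁⁻¹, inv_smul_eq_iff, h]))⟩
  have hHc : IsMulCommutative (pairStab G a b) :=
    ⟨⟨fun g k => Subtype.ext (H.comm_K (hstabK ▸ g.2) (hstabK ▸ k.2)).eq⟩⟩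
  have hirr : ∀ A : Subgroup G, A ≤ M → (∀ g ∈ pairStab G a b, ∀ v ∈ A, g * v * g⁻¹ ∈ A) →
      (∃ v ∈ A, v ≠ 1) → A = M := fun A hA hinv ⟨v, hv, hv1⟩ =>
    H.irreducible hle hA (fun k hk' => hinv k (hstabK ▸ hk'))
      (fun e => hv1 (by rwa [e, Subgroup.mem_bot] at hv))
  have hua : u • a = b := by
    rw [ha, hb, MulAction.Quotient.smul_mk, smul_eq_mul, mul_one]
  have hub : u • b = a := by
    rw [ha, hb, MulAction.Quotient.smul_mk, smul_eq_mul, mul_self_of hu]
  -- a swapping involution with a third fixed point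
  obtain ⟨d, hd, x₀, hx₀, hfix⟩ : ∃ d ∈ K, ∃ x₀ : M, x₀ ≠ 1 ∧
      (d * u) • (x₀ : G) • b = (x₀ : G) • b := by
    rcases ht2 with ht1 | ht1
    · let x₀ : M := ⟨x₁, hx₁⟩
      obtain ⟨x', hx'⟩ := htrans (u • (x₀ : G) • b) (fun e => by
        have h2 : (x₀ : G) • b = u⁻¹ • a := eq_inv_smul_iff.2 e
        rw [inv_of hu, hua] at h2
        exact hx₁' (hsemi x₀ 1 (by simpa using h2)))
      have hx'1 : x' ≠ 1 := fun e => hne x₀ (smul_left_cancel u (by
        rw [← hx', e, hua]; exact one_smul _ _))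
      let f : K → {x : M // x ≠ 1} := fun k =>
        ⟨⟨(k : G) * x' * (k : G)⁻¹, conj_mem (mem_K.1 k.2).1 x'.2⟩,
          fun e => hx'1 (Subtype.ext (conj_eq_one_iff.mp (congrArg Subtype.val e)))⟩
      have hfi : Function.Injective f := by
        intro k l e
        have e' : (k : G) * x' * (k : G)⁻¹ = (l : G) * x' * (l : G)⁻¹ :=
          congrArg (fun w : {x : M // x ≠ 1} => ((w : M) : G)) e
        by_contra hkl
        refine hx'1 (Subtype.ext (H.fpf (mul_mem (inv_mem l.2) k.2)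
          (fun e1 => hkl (Subtype.ext (inv_mul_eq_one.mp e1).symm)) x'.2 ?_))
        show (l : G)⁻¹ * k * x' = x' * ((l : G)⁻¹ * k)
        calc (l : G)⁻¹ * k * x' = (l : G)⁻¹ * ((k : G) * x' * (k : G)⁻¹) * k := by group
          _ = (l : G)⁻¹ * ((l : G) * x' * (l : G)⁻¹) * k := by rw [e']
          _ = _ := by group
      haveI := Fintype.ofFinite M
      have hcard : Nat.card K = Nat.card {x : M // x ≠ 1} := by
        rw [Nat.card_eq_fintype_card (α := {x : M // x ≠ 1}), Fintype.card_subtype_compl,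
          Fintype.card_subtype_eq, ← Nat.card_eq_fintype_card, ht, ht1, mul_one]
      obtain ⟨k, hk'⟩ := ((Nat.bijective_iff_injective_and_card f).2 ⟨hfi, hcard⟩).2 ⟨x₀, hx₁'⟩
      refine ⟨k, k.2, x₀, hx₁', ?_⟩
      have e : (k : G) * x' * (k : G)⁻¹ = x₀ :=
        congrArg (fun w : {x : M // x ≠ 1} => ((w : M) : G)) hk'
      have hkb : (k : G) • b = b :=
        (CfsgLib.PermSmall.Zassenhaus.mem_pairStab.1 (hstabK.symm ▸ k.2 : (k : G) ∈ pairStab G a b)).2
      rw [mul_smul, ← hx', ← e, mul_smul, mul_smul,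
        show (k : G)⁻¹ • b = b from inv_smul_eq_iff.2 hkb.symm]
    · obtain ⟨g, hg⟩ := H.all_conj (by rw [ht1] at ht; omega) hu
      have hgf : u • (QuotientGroup.mk g : G ⧸ N) = QuotientGroup.mk g := by
        rw [MulAction.Quotient.smul_mk, QuotientGroup.eq, smul_eq_mul,
          show (u * g)⁻¹ * g = (g⁻¹ * u * g)⁻¹ by group, inv_mem_iff, hg]
        simpa [mul_assoc] using H.znorm
      obtain ⟨x₀, hx₀⟩ := htrans (QuotientGroup.mk g) (fun e => hab (by
        rw [← hua, ← e, hgf]))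
      refine ⟨1, one_mem _, x₀, fun e => hab ?_, by rw [one_mul, hx₀, hgf]⟩
      rw [← hub]
      conv_rhs => rw [← one_smul G b, ← Subgroup.coe_one M, ← e, hx₀, ← hgf, ← hx₀, e]
      simp
  have hdK := mem_K.1 hd
  have hda : d • a = a := (hga d).2 hdK.1
  have hdb : d • b = b :=
    (CfsgLib.PermSmall.Zassenhaus.mem_pairStab.1 (hstabK ▸ hd)).2
  have hdd : d * u * (d * u) = 1 := by
    rw [show d * u * (d * u) = d * (u * d * u) by group, H.K_inverted hu huN huz hd, mul_inv_cancel]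
  have hinv : ∀ h ∈ pairStab G a b, d * u * h * (d * u)⁻¹ = h⁻¹ := by
    intro h hh
    rw [hstabK] at hh
    rw [show d * u * h * (d * u)⁻¹ = d * (u * h * u⁻¹) * d⁻¹ by group, inv_of hu,
      H.K_inverted hu huN huz hh, (H.comm_K hd (inv_mem hh)).eq, mul_inv_cancel_right]
  set c : G ⧸ N := (x₀ : G) • b with hcdef
  have hac : a ≠ c := fun e => hne x₀ e.symm
  have hbc : b ≠ c := fun e => hx₀ (hsemi x₀ 1 (by rw [Subgroup.coe_one, one_smul]; exact e.symm))
  have hd' : (d * u) • a = b := by rw [mul_smul, hua, hdb]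
  have hd'' : (d * u) • b = a := by rw [mul_smul, hub, hda]
  have hKc : Nat.card (pairStab G a b) = Nat.card K := by rw [hstabK]
  have fin : ∀ (F : Type) [Field F] [Fintype F], Fintype.card F = Fintype.card (G ⧸ N) - 1 →
      (Nonempty (G ≃* (GL (Fin 2) F ⧸ Subgroup.center (GL (Fin 2) F))) ∨
         (Fintype.card F % 4 = 1 ∧
          Nonempty (G ≃* Matrix.ProjectiveSpecialLinearGroup (Fin 2) F))) →
      ∃ (F : Type) (_ : Field F) (_ : Fintype F) (p : ℕ) (_ : Fact p.Prime) (_ : CharP F p),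
        Fintype.card F = Nat.card M ∧ Cfsg.IsElementaryAbelian p M ∧
          (Nonempty (G ≃* (GL (Fin 2) F ⧸ Subgroup.center (GL (Fin 2) F))) ∨
           (Fintype.card F % 4 = 1 ∧
            Nonempty (G ≃* Matrix.ProjectiveSpecialLinearGroup (Fin 2) F))) := by
    intro F _ _ hF hiso
    rw [hcardΩ, Nat.add_sub_cancel] at hF
    obtain ⟨p, hp⟩ := CharP.exists F
    obtain ⟨n, hprime, hpn⟩ := FiniteField.card F p
    haveI : Fact p.Prime := ⟨hprime⟩
    refine ⟨F, inferInstance, inferInstance, p, ⟨hprime⟩, hp, hF, H.elementary hle ?_, hiso⟩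
    rw [← hF, hpn]
    exact dvd_pow_self p n.ne_zero
  rcases ht2 with ht1 | ht1
  · obtain ⟨F, iF, iT, hF, ⟨e⟩⟩ := CfsgLib.PermSmall.Recognition.pgl_of_inverted hab hac hbc
      (fun g => hthree x₀ hx₀ g) M hFle hFn hFc hreg hHc hirr
      (by rw [hKc, hcardΩ]; rw [ht1, mul_one] at ht; omega) (d * u) hd' hd'' hfix hinv
    exact @fin F iF iT hF (Or.inl ⟨e⟩)
  · obtain ⟨F, iF, iT, -, hF, ⟨e⟩⟩ := CfsgLib.PermSmall.Recognition.psl_of_inverted hab hac hbc
      (fun g => hthree x₀ hx₀ g) M hFle hFn hFc hreg hHc hirr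
      (by rw [hKc, hcardΩ]; rw [ht1] at ht; omega) (hKc ▸ H.even_card_K) (d * u) hd' hd'' hfix hinv
    refine @fin F iF iT hF (Or.inr ⟨?_, ⟨e⟩⟩)
    obtain ⟨j, hj⟩ := H.even_card_K
    rw [ht1] at ht
    rw [hF, hcardΩ]
    omega

end Hyp

end CfsgLib.LocalEven.TICount
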